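import Groth.Agent.Cyc.K91.FibFin
import Groth.Agent.CycB.FlatRat
import Groth.Agent.Ega4fib.H174.EquidimCrit
import Groth.Agent.S3401

/-!
# The locus where a difference of families of cycles is effective
-/

set_option autoImplicit false
universe u

open CategoryTheory CategoryTheory.Limits AlgebraicGeometry TopologicalSpace

namespace Groth.Agent.Cyc.K91.Closed

open Groth.Agent.Divis.CartierBasic Groth.Agent.CycB Groth.Agent.CycB.FiberStalk
  Groth.Agent.CycB.LocQuot Groth.Agent.Cyc.K91.FibMult Groth.Agent.CycB.RelDim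
  Groth.Agent.CycB.TrdegAlg

section Topology

variable {T : Type*} [TopologicalSpace T] [NoetherianSpace T] [QuasiSober T]

/-- A subset stable under specialization which contains the generic point of every irreducible
closed subset in which it is dense is closed. -/
theorem isClosed_of_dense (E : Set T) (h1 : ∀ x y : T, x ⤳ y → x ∈ E → y ∈ E)
    (h2 : ∀ x : T, x ∈ closure (E ∩ closure {x}) → x ∈ E) : IsClosed E := by
  have key : ∀ D : Closeds T, closure (E ∩ D) ⊆ E := by
    intro D
    induction D using WellFoundedLT.induction with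
    | ind D ih =>
      by_cases hD : IsIrreducible (D : Set T)
      · obtain ⟨η, hη⟩ := QuasiSober.sober hD D.isClosed
        have hη' : closure {η} = (D : Set T) := hη.def
        by_cases hd : η ∈ closure (E ∩ closure {η})
        · intro z hz
          refine h1 η z ?_ (h2 η hd)
          rw [specializes_iff_mem_closure, hη']
          exact closure_minimal Set.inter_subset_right D.isClosed hz
        · rw [hη'] at hd
          have hlt : (⟨closure (E ∩ D), isClosed_closure⟩ : Closeds T) < D := by
            refine lt_of_le_of_ne (closure_minimal Set.inter_subset_right D.isClosed) fun h => ?_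
            apply hd
            have h3 : closure (E ∩ D) = (D : Set T) := congrArg (fun D : Closeds T => (D : Set T)) h
            rw [h3, ← hη']
            exact subset_closure rfl
          refine (closure_mono ?_).trans (ih _ hlt)
          exact fun z hz => ⟨hz.1, subset_closure hz⟩
      · by_cases hne : (D : Set T).Nonempty
        · have h3 : ¬ IsPreirreducible (D : Set T) := fun h => hD ⟨hne, h⟩
          rw [isPreirreducible_iff_isClosed_union_isClosed] at h3
          push Not at h3
          obtain ⟨Z₁, Z₂, hZ₁, hZ₂, hle, hn1, hn2⟩ := h3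
          have hlt1 : D ⊓ ⟨Z₁, hZ₁⟩ < D := lt_of_le_of_ne inf_le_left fun h =>
            hn1 (by rw [← h]; exact Set.inter_subset_right)
          have hlt2 : D ⊓ ⟨Z₂, hZ₂⟩ < D := lt_of_le_of_ne inf_le_left fun h =>
            hn2 (by rw [← h]; exact Set.inter_subset_right)
          have h4 : E ∩ D ⊆ (E ∩ ((D ⊓ ⟨Z₁, hZ₁⟩ : Closeds T) : Set T)) ∪
              (E ∩ ((D ⊓ ⟨Z₂, hZ₂⟩ : Closeds T) : Set T)) := by
            rintro z ⟨hz1, hz2⟩
            rcases hle hz2 with h | h
            · exact Or.inl ⟨hz1, hz2, h⟩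
            · exact Or.inr ⟨hz1, hz2, h⟩
          refine (closure_mono h4).trans ?_
          rw [closure_union]
          exact Set.union_subset (ih _ hlt1) (ih _ hlt2)
        · rw [Set.not_nonempty_iff_eq_empty] at hne
          rw [hne]
          simp
  rw [← closure_subset_iff_isClosed]
  simpa using key ⊤

end Topology

variable {X S : Scheme.{u}}

theorem finite_support (f : X ⟶ S) [LocallyOfFiniteType f] [NoetherianSpace X]
    (I : X.IdealSheafData) (η : S) :
    {x : X | f x = η ∧ x ∈ I.support ∧ cI f I x ≠ ⊤}.Finite := by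
  have h1 : NoetherianSpace I.subscheme :=
    I.subschemeι.isClosedEmbedding.isInducing.noetherianSpace
  have h2 : NoetherianSpace (Set.univ : Set I.subscheme) :=
    NoetherianSpace.of_subset (W := Set.univ) (V := Set.univ) (fun y hy => hy)
  have h3 := FlatRat.finite_allGenPts_mem (I.subschemeι ≫ f) η Set.univ
  refine (h3.image fun ζ => I.subschemeι ζ.1).subset ?_
  rintro x ⟨hx1, hx2, hx3⟩
  have hker : I.subschemeι.ker = I := I.ker_subschemeι
  obtain ⟨z, rfl⟩ := (FibFin.mem_support_ker_iff I.subschemeι x).1 (by rwa [hker])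
  refine ⟨⟨z, hx1, ?_⟩, trivial, rfl⟩
  intro y hy hs
  refine FlatProper.fibGeneric_of_length_ne_top (I.subschemeι ≫ f) z ?_ y hy hs
  have h4 := FibFin.mult_eq_cI I.subschemeι f z
  rw [hker] at h4
  rw [← h4] at hx3
  exact hx3

section Main

variable [IsNoetherian S] (f : X ⟶ S) [LocallyOfFiniteType f] (r : ℕ)
  {J : Type*} [Fintype J] (I : J → X.IdealSheafData)
  (hflat : ∀ a, Flat ((I a).subschemeι ≫ f))
  (hfin : ∀ a x, x ∈ (I a).support → (cI f (I a) x ≠ ⊤ ↔ rtd f x = r))
  (hle : ∀ a x, x ∈ (I a).support → rtd f x ≤ r) (n : J → ℤ)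

/-- the coefficient at `x` of the combination of the cycles of the fibres. -/
noncomputable def coef (x : X) : ℤ := ∑ a, n a * ((cI f (I a) x).toNat : ℤ)

variable {f r I n}

omit [AlgebraicGeometry.IsNoetherian S] [LocallyOfFiniteType f] in
include hfin in
theorem exists_of_coef_ne_zero {x : X} (h : coef f I n x ≠ 0) :
    (∀ a, cI f (I a) x ≠ ⊤) ∧ rtd f x = r ∧ ∃ a, x ∈ (I a).support := by
  obtain ⟨a, -, ha⟩ := Finset.exists_ne_zero_of_sum_ne_zero h
  have h1 : (cI f (I a) x).toNat ≠ 0 := fun h1 => ha (by rw [h1]; simp)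
  rw [Ne, ENat.toNat_eq_zero, not_or] at h1
  have h2 := (Compare.cI_ne_zero_iff f (I a) x).1 h1.1
  have h3 := (hfin a x h2).1 h1.2
  refine ⟨fun b => ?_, h3, a, h2⟩
  by_cases hb : x ∈ (I b).support
  · exact (hfin b x hb).2 h3
  · have h4 : cI f (I b) x = 0 := by
      by_contra h4
      exact hb ((Compare.cI_ne_zero_iff f (I b) x).1 h4)
    rw [h4]
    exact ENat.zero_ne_top

include hflat hfin in
theorem coef_nonneg_of_specializes {η s : S} (h : η ⤳ s)
    (hη : ∀ x, f x = η → 0 ≤ coef f I n x) (y : X) (hy : f y = s) : 0 ≤ coef f I n y := by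
  by_cases h0 : coef f I n y = 0
  · exact h0.ge
  obtain ⟨h1, h2, h3⟩ := exists_of_coef_ne_zero hfin h0
  subst hy
  obtain ⟨T, hT, x, w, e, he, hx, hsum⟩ := Compare.exists_comparison f I hflat y h h1
  have h4 : coef f I n y * e = ∑ i, w i * coef f I n (x i) := by
    unfold coef
    simp_rw [Finset.sum_mul, Finset.mul_sum]
    rw [Finset.sum_comm]
    refine Finset.sum_congr rfl fun a _ => ?_
    have h5 := hsum a
    have h6 : ((cI f (I a) y).toNat : ℤ) * e = ∑ i, (w i : ℤ) * ((cI f (I a) (x i)).toNat : ℤ) := by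
      exact_mod_cast h5
    rw [mul_assoc, h6, Finset.mul_sum]
    exact Finset.sum_congr rfl fun i _ => by ring
  have h5 : 0 ≤ coef f I n y * e := by
    rw [h4]
    exact Finset.sum_nonneg fun i _ => mul_nonneg (Int.natCast_nonneg _) (hη _ (hx i).2.1)
  exact nonneg_of_mul_nonneg_left h5 (by exact_mod_cast Nat.pos_of_ne_zero he)

include hflat hfin hle in
theorem coef_nonneg_of_dense [QuasiCompact f] (η : S)
    (hη : η ∈ closure ({s : S | ∀ x, f x = s → 0 ≤ coef f I n x} ∩ closure {η}))
    (x : X) (hx : f x = η) : 0 ≤ coef f I n x := by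
  classical
  by_contra hneg
  push Not at hneg
  obtain ⟨h1, h2, a₀, h3⟩ := exists_of_coef_ne_zero hfin hneg.ne
  have hNX : IsLocallyNoetherian X := LocallyOfFiniteType.isLocallyNoetherian f
  have hcX : CompactSpace X := QuasiCompact.compactSpace_of_compactSpace f
  have hNX' : IsNoetherian X := {}
  -- the other points
  let A : Set X := ⋃ a, {x' : X | f x' = η ∧ x' ∈ (I a).support ∧ cI f (I a) x' ≠ ⊤}
  have hA : A.Finite := Set.finite_iUnion fun a => finite_support f (I a) η
  let B : Set X := ⋃ x' ∈ A \ {x}, closure {x'}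
  have hB : IsClosed B := (hA.subset Set.sdiff_subset).isClosed_biUnion fun x' _ => isClosed_closure
  have hxB : x ∉ B := by
    intro h
    simp only [B, Set.mem_iUnion] at h
    obtain ⟨x', ⟨hx'A, hx'x⟩, hx'⟩ := h
    simp only [A, Set.mem_iUnion] at hx'A
    obtain ⟨a, ha1, ha2, ha3⟩ := hx'A
    apply hx'x
    have hs : x' ⤳ x := specializes_iff_mem_closure.2 hx'
    have h4 : rtd f x' = r := (hfin a x' ha2).1 ha3
    by_contra hne
    have h5 := rtd_lt_of_specializes f hs hne (ha1.trans hx.symm)
    rw [h2, h4] at h5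
    exact lt_irrefl _ h5
  -- Chevalley
  have hC : Topology.IsConstructible (Bᶜ ∩ closure {x}) := by
    have c1 := S3401.isConstructible_of_isOpen_of_noetherianSpace hB.isOpen_compl
    have c2 := S3401.isConstructible_of_isOpen_of_noetherianSpace
      (isClosed_closure (s := {x})).isOpen_compl
    have c3 := c1.inter c2.compl
    rwa [compl_compl] at c3
  have hfC := f.isConstructible_image hC
  obtain ⟨V, hV, hηV, hVs⟩ := S3401.exists_open_iff_of_isConstructible hfC η
  have hηf : η ∈ f '' (Bᶜ ∩ closure {x}) := ⟨x, ⟨hxB, subset_closure rfl⟩, hx⟩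
  rw [mem_closure_iff] at hη
  obtain ⟨s, hsV, hsE, hsη⟩ := hη V hV hηV
  obtain ⟨y₀, ⟨hy₀B, hxy₀⟩, rfl⟩ := (hVs s hsV (specializes_iff_mem_closure.2 hsη)).2 hηf
  obtain ⟨y, hxy, hyy₀, hfy, hmax⟩ := Ega4fib.H174.EquidimCrit.exists_maximal_fib f
    (specializes_iff_mem_closure.2 hxy₀)
  have hr1 := Ega4fib.H174.EquidimCrit.rtd_le_of_maximal_fib f hxy hmax
  have hsup : ∀ a, x ∈ (I a).support → y ∈ (I a).support := fun a ha =>
    hxy.mem_closed (I a).support.isClosed ha
  have hr2 := hle a₀ y (hsup a₀ h3)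
  rw [h2] at hr1
  have hr : rtd f y = r := le_antisymm hr2 hr1
  have hyfin : ∀ a, cI f (I a) y ≠ ⊤ := by
    intro b
    by_cases hb : y ∈ (I b).support
    · exact (hfin b y hb).2 hr
    · have h4 : cI f (I b) y = 0 := by
        by_contra h4
        exact hb ((Compare.cI_ne_zero_iff f (I b) y).1 h4)
      rw [h4]
      exact ENat.zero_ne_top
  have hyB : y ∉ B := fun h => hy₀B (hyy₀.mem_closed hB h)
  have hηy : η ⤳ f y := by
    rw [← hx]
    exact hxy.map f.continuous
  obtain ⟨T, hT, q, w, e, he, hq, hsum⟩ := Compare.exists_comparison f I hflat y hηy hyfin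
  have hqx : ∀ i, q i = x := by
    intro i
    by_contra hne
    apply hyB
    obtain ⟨hq1, hq2, hq3, ⟨a, ha⟩, hq4⟩ := hq i
    simp only [B, Set.mem_iUnion]
    refine ⟨q i, ⟨?_, hne⟩, specializes_iff_mem_closure.1 hq1⟩
    simp only [A, Set.mem_iUnion]
    exact ⟨a, hq2, ha, hq4 a⟩
  have h4 : coef f I n y * e = (∑ i, (w i : ℤ)) * coef f I n x := by
    unfold coef
    simp_rw [Finset.sum_mul, Finset.mul_sum]
    rw [Finset.sum_comm]
    refine Finset.sum_congr rfl fun a _ => ?_
    have h5 := hsum a
    have h6 : ((cI f (I a) y).toNat : ℤ) * e = ∑ i, (w i : ℤ) * ((cI f (I a) (q i)).toNat : ℤ) := by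
      exact_mod_cast h5
    rw [mul_assoc, h6, Finset.mul_sum]
    exact Finset.sum_congr rfl fun i _ => by rw [hqx i]; ring
  have hne : Nonempty T := by
    by_contra hem
    rw [not_nonempty_iff] at hem
    have h5 := hsum a₀
    rw [Finset.univ_eq_empty, Finset.sum_empty] at h5
    have h6 := (mul_eq_zero.1 h5).resolve_right he
    rw [ENat.toNat_eq_zero] at h6
    exact h6.elim ((Compare.cI_ne_zero_iff f (I a₀) y).2 (hsup a₀ h3)) (hyfin a₀)
  have hw : 0 < ∑ i, (w i : ℤ) := Finset.sum_pos (fun i _ => by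
    exact_mod_cast Nat.pos_of_ne_zero (hq i).2.2.1) Finset.univ_nonempty
  have h5 : 0 ≤ coef f I n y := hsE y hfy
  have h6 : 0 ≤ coef f I n y * e := mul_nonneg h5 (Int.natCast_nonneg _)
  rw [h4] at h6
  exact absurd (nonneg_of_mul_nonneg_right h6 hw) (not_le.2 hneg)

include hflat hfin hle in
/-- The locus where the combination of the cycles of the fibres is effective is closed. -/
theorem isClosed_coef_nonneg [QuasiCompact f] :
    IsClosed {s : S | ∀ x, f x = s → 0 ≤ coef f I n x} :=
  isClosed_of_dense _ (fun _ _ h hx y hy => coef_nonneg_of_specializes hflat hfin h hx y hy)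
    fun η hη x hx => coef_nonneg_of_dense hflat hfin hle η hη x hx

end Main

end Groth.Agent.Cyc.K91.Closed
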