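import Groth.Agent.Cyc.K91.DvrSum
import Groth.Agent.Ega43.DvrScheme
import Mathlib.Data.ENat.BigOperators

/-!
# Comparison of the multiplicities of fibres under specialization of the base
-/

set_option autoImplicit false
universe u

open CategoryTheory CategoryTheory.Limits AlgebraicGeometry

namespace Groth.Agent.Cyc.K91.Compare

open Groth.Agent.Divis.CartierBasic Groth.Agent.CycB Groth.Agent.CycB.FiberStalk
  Groth.Agent.CycB.LocQuot Groth.Agent.Ega4late.H533.DescScheme Groth.Agent.Cyc.K91.FibMult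

variable {X S : Scheme.{u}}

theorem isDomain_stalk (R : Type u) [CommRing R] [IsDomain R] [IsLocalRing R] :
    IsDomain ((Spec (CommRingCat.of R)).presheaf.stalk (IsLocalRing.closedPoint R)) :=
  (stalkClosedPointIso (CommRingCat.of R)).commRingCatIsoToRingEquiv.toMulEquiv.isDomain _

theorem isDVR_stalk (R : Type u) [CommRing R] [IsDomain R] [IsDiscreteValuationRing R]
    [IsDomain ((Spec (CommRingCat.of R)).presheaf.stalk (IsLocalRing.closedPoint R))] :
    IsDiscreteValuationRing
      ((Spec (CommRingCat.of R)).presheaf.stalk (IsLocalRing.closedPoint R)) :=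
  IsDiscreteValuationRing.RingEquivClass.isDiscreteValuationRing
    (stalkClosedPointIso (CommRingCat.of R)).commRingCatIsoToRingEquiv.symm

theorem dvr_stalk_of_eq (R : Type u) [CommRing R] [IsDomain R] [IsDiscreteValuationRing R]
    (z : Spec (CommRingCat.of R)) (hz : z = IsLocalRing.closedPoint R) :
    ∃ _ : IsDomain ((Spec (CommRingCat.of R)).presheaf.stalk z),
      IsDiscreteValuationRing ((Spec (CommRingCat.of R)).presheaf.stalk z) := by
  subst hz
  have := isDomain_stalk R
  exact ⟨this, isDVR_stalk R⟩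

theorem cI_ne_zero_iff (f : X ⟶ S) (I : X.IdealSheafData) (x : X) :
    cI f I x ≠ 0 ↔ x ∈ I.support := by
  unfold cI
  rw [Ne, Module.length_eq_zero_iff, Ideal.Quotient.subsingleton_iff]
  constructor
  · intro h
    by_contra hx
    apply h
    rw [(notMem_support_iff_stalkIdeal_eq_top I x).1 hx, top_sup_eq]
  · intro hx h
    have h1 : stalkIdeal I x ≠ ⊤ := fun h1 =>
      ((notMem_support_iff_stalkIdeal_eq_top I x).2 h1) hx
    have h2 := sup_le (IsLocalRing.le_maximalIdeal h1) (FiberStalk.fibIdeal_le f x)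
    rw [h, top_le_iff] at h2
    exact (IsLocalRing.maximalIdeal.isMaximal _).ne_top h2

/-- A point of the spectrum of a discrete valuation ring other than the closed point is generic. -/
theorem eq_generic (R : Type u) [CommRing R] [IsDomain R] [IsDiscreteValuationRing R]
    (z : Spec (CommRingCat.of R)) (hz : z ≠ IsLocalRing.closedPoint R) : z.asIdeal = ⊥ := by
  by_contra hb
  have h3 : z.asIdeal.IsMaximal := z.2.isMaximal hb
  exact hz (PrimeSpectrum.ext (IsLocalRing.eq_maximalIdeal h3))

theorem exists_comparison [IsLocallyNoetherian S] (f : X ⟶ S) [LocallyOfFiniteType f]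
    {ι : Type*} [Finite ι] (I : ι → X.IdealSheafData)
    (hflat : ∀ a, Flat ((I a).subschemeι ≫ f)) {η : S} (y : X) (h : η ⤳ f y)
    (hfin : ∀ a, cI f (I a) y ≠ ⊤) :
    ∃ (T : Type u) (_ : Fintype T) (x : T → X) (w : T → ℕ) (e : ℕ), e ≠ 0 ∧
      (∀ i, x i ⤳ y ∧ f (x i) = η ∧ w i ≠ 0 ∧ (∃ a, x i ∈ (I a).support) ∧
        ∀ a, cI f (I a) (x i) ≠ ⊤) ∧
      ∀ a, (cI f (I a) y).toNat * e = ∑ i, w i * (cI f (I a) (x i)).toNat := by
  classical
  by_cases hne : η = f y
  · by_cases hs : ∃ a, y ∈ (I a).support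
    · exact ⟨PUnit, inferInstance, fun _ => y, fun _ => 1, 1, one_ne_zero,
        fun _ => ⟨specializes_refl y, hne.symm, one_ne_zero, hs, hfin⟩, fun a => by simp⟩
    · refine ⟨PEmpty, inferInstance, PEmpty.elim, PEmpty.elim, 1, one_ne_zero, fun i => i.elim,
        fun a => ?_⟩
      have h1 : cI f (I a) y = 0 := by
        by_contra h1
        exact hs ⟨a, (cI_ne_zero_iff f (I a) y).1 h1⟩
      simp [h1]
  obtain ⟨R, i1, i2, i3, i4, i5, g, hg1, hg2⟩ := Ega43.DvrScheme.exists_dvr_of_specializes h hne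
    (S.residueField η) (𝟙 _) (RingHom.FiniteType.essFiniteType
      (RingHom.FiniteType.of_surjective _ Function.surjective_id))
  have sq := IsPullback.of_hasPullback f g
  obtain ⟨t, ht1, ht2, e, he0, het, he⟩ := exists_point sq y (IsLocalRing.closedPoint R) hg1.symm
  obtain ⟨d1, d2⟩ := dvr_stalk_of_eq R (pullback.snd f g t) ht2
  have hN : IsLocallyNoetherian (pullback f g) :=
    LocallyOfFiniteType.isLocallyNoetherian (pullback.snd f g)
  obtain ⟨T, hT, q, w, hq, hsum⟩ := DvrSum.exists_sum (pullback.snd f g) t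
    (fun a => (I a).comap (pullback.fst f g))
    (fun a => Fga.RelCart.flat_comap sq (I a)) (fun a => by
      rw [he]
      exact WithTop.mul_ne_top (hfin a) het)
  choose e' he0' he' using fun i => exists_factor sq (q i)
  have hg : ∀ z : Spec (CommRingCat.of R), z ≠ IsLocalRing.closedPoint R → g z = η := by
    intro z hz
    have h1 := eq_generic R z hz
    have h2 : z = Spec.map (CommRingCat.ofHom (algebraMap R (S.residueField η)))
        (IsLocalRing.closedPoint (S.residueField η)) := by
      apply PrimeSpectrum.ext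
      rw [h1]
      change _ = Ideal.comap (algebraMap R (S.residueField η))
        (IsLocalRing.maximalIdeal (S.residueField η))
      rw [IsLocalRing.maximalIdeal_eq_bot, ← RingHom.ker_eq_comap_bot, eq_comm,
        ← RingHom.injective_iff_ker_eq_bot]
      exact IsFractionRing.injective R (S.residueField η)
    rw [h2]
    have h3 := congr($hg2 (IsLocalRing.closedPoint (S.residueField η)))
    rw [Scheme.Hom.comp_apply] at h3
    rw [h3]
    simp
  have hx : ∀ i, f (pullback.fst f g (q i)) = η := by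
    intro i
    have h1 := congr($(sq.w) (q i))
    rw [Scheme.Hom.comp_apply, Scheme.Hom.comp_apply] at h1
    rw [h1]
    refine hg _ fun h2 => (hq i).2.1 ?_
    rw [h2, ht2]
  have hsp : ∀ i, pullback.fst f g (q i) ⤳ y := by
    intro i
    have h1 := (hq i).1.map (pullback.fst f g).continuous
    rwa [ht1] at h1
  -- finiteness of the terms
  have hterm : ∀ i a, w i * (cI f (I a) (pullback.fst f g (q i)) * e' i) ≠ ⊤ := by
    intro i a hcon
    have h1 := hsum a
    rw [he] at h1
    have h2 : cI f (I a) y * e ≠ (⊤ : ℕ∞) := WithTop.mul_ne_top (hfin a) het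
    apply h2
    rw [h1, ENat.sum_eq_top]
    exact ⟨i, Finset.mem_univ _, by rw [he' i]; exact hcon⟩
  have hsupp : ∀ i, ∃ a, pullback.fst f g (q i) ∈ (I a).support := by
    intro i
    obtain ⟨a, ha⟩ := (hq i).2.2.2
    refine ⟨a, ?_⟩
    rw [← cI_ne_zero_iff f]
    rw [← cI_ne_zero_iff (pullback.snd f g), he' i] at ha
    exact left_ne_zero_of_mul ha
  have hfx : ∀ i a, cI f (I a) (pullback.fst f g (q i)) ≠ ⊤ := by
    intro i a hcon
    apply hterm i a
    rw [hcon, ENat.top_mul (he0' i), ENat.mul_top (hq i).2.2.1]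
  have hwe : ∀ i, w i * e' i ≠ ⊤ := by
    intro i hcon
    obtain ⟨a, ha⟩ := hsupp i
    rw [← cI_ne_zero_iff f] at ha
    apply hterm i a
    rw [mul_left_comm, hcon, ENat.mul_top ha]
  have hwe0 : ∀ i, w i * e' i ≠ 0 := fun i => mul_ne_zero (hq i).2.2.1 (he0' i)
  refine ⟨T, hT, fun i => pullback.fst f g (q i), fun i => (w i * e' i).toNat, e.toNat, ?_,
    fun i => ⟨hsp i, hx i, ?_, hsupp i, hfx i⟩, fun a => ?_⟩
  · rw [Ne, ENat.toNat_eq_zero]
    exact fun h => h.elim he0 het
  · rw [Ne, ENat.toNat_eq_zero]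
    exact fun h => h.elim (hwe0 i) (hwe i)
  · have h1 := hsum a
    rw [he] at h1
    have h2 : ∀ i, w i * cI (pullback.snd f g) ((I a).comap (pullback.fst f g)) (q i) =
        (((w i * e' i).toNat * (cI f (I a) (pullback.fst f g (q i))).toNat : ℕ) : ℕ∞) := by
      intro i
      rw [he' i, Nat.cast_mul, ENat.natCast_toNat (hwe i), ENat.natCast_toNat (hfx i a)]
      ring
    simp_rw [h2] at h1
    rw [← Nat.cast_sum, ← ENat.natCast_toNat (hfin a), ← ENat.natCast_toNat het, ← Nat.cast_mul] at h1
    exact_mod_cast h1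

end Groth.Agent.Cyc.K91.Compare
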