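import Groth.Agent.S1833
import Groth.Agent.S3406
import Groth.Agent.CycB.LenSum
import Mathlib.RingTheory.KrullDimension.Regular
import Mathlib.RingTheory.OrderOfVanishing.Basic

/-!
# Lengths modulo a regular element as sums over the generic points, for finitely many cyclic modules
-/

set_option autoImplicit false
universe u

open Pointwise

namespace Groth.Agent.Cyc.K91.DvrAlg

open Groth.Agent.CycB.LenSum

variable {D : Type u} [CommRing D]

/-- `(D/J)/ϖ(D/J) = D/(J + ϖ)`. -/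
theorem length_quot_smul (J : Ideal D) (ϖ : D) :
    Module.length D ((D ⧸ J) ⧸ ϖ • (⊤ : Submodule D (D ⧸ J))) =
      Module.length D (D ⧸ (J ⊔ Ideal.span {ϖ})) := by
  let g : D →ₗ[D] ((D ⧸ J) ⧸ ϖ • (⊤ : Submodule D (D ⧸ J))) :=
    (ϖ • (⊤ : Submodule D (D ⧸ J))).mkQ.comp (Submodule.mkQ J)
  have hg : Function.Surjective g :=
    (Submodule.mkQ_surjective _).comp (Submodule.mkQ_surjective _)
  have hk : LinearMap.ker g = J ⊔ Ideal.span {ϖ} := by
    ext x
    rw [LinearMap.mem_ker]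
    change (Submodule.Quotient.mk (Submodule.Quotient.mk x : D ⧸ J) : _) = 0 ↔ _
    rw [Submodule.Quotient.mk_eq_zero, Submodule.mem_smul_pointwise_iff_exists]
    constructor
    · rintro ⟨y, -, hy⟩
      obtain ⟨y, rfl⟩ := Submodule.Quotient.mk_surjective _ y
      rw [← Submodule.Quotient.mk_smul, Submodule.Quotient.eq] at hy
      rw [Submodule.mem_sup]
      refine ⟨x - ϖ * y, ?_, ϖ * y, Ideal.mul_mem_right _ _ (Ideal.mem_span_singleton_self ϖ),
        by ring⟩
      rw [← neg_mem_iff]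
      convert hy using 1
      simp [smul_eq_mul]
    · intro hx
      obtain ⟨a, ha, b, hb, rfl⟩ := Submodule.mem_sup.1 hx
      obtain ⟨c, rfl⟩ := Ideal.mem_span_singleton'.1 hb
      refine ⟨Submodule.Quotient.mk c, trivial, ?_⟩
      rw [← Submodule.Quotient.mk_smul, Submodule.Quotient.eq, smul_eq_mul]
      have : ϖ * c - (a + c * ϖ) = -a := by ring
      rw [this]
      exact J.neg_mem ha
  rw [← (LinearMap.quotKerEquivOfSurjective g hg).length_eq, hk]

theorem locLen_quot_eq_zero (p J : Ideal D) [p.IsPrime] (h : ¬ J ≤ p) : locLen p (D ⧸ J) = 0 := by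
  obtain ⟨s, hs, hsp⟩ := Set.not_subset.1 h
  refine locLen_eq_zero_of_exists p _ s hsp ?_
  intro m
  obtain ⟨m, rfl⟩ := Ideal.Quotient.mk_surjective m
  rw [← Ideal.Quotient.mk_eq_mk, ← Submodule.Quotient.mk_smul, Ideal.Quotient.mk_eq_mk,
    Ideal.Quotient.eq_zero_iff_mem]
  exact J.mul_mem_right _ hs

variable [IsNoetherianRing D] [IsLocalRing D]

open IsLocalRing

theorem supportDim_le (J : Ideal D) (ϖ : D)
    (hfin : Module.length D (D ⧸ (J ⊔ Ideal.span {ϖ})) ≠ ⊤) :
    Module.supportDim D ((D ⧸ J) ⧸ ϖ • (⊤ : Submodule D (D ⧸ J))) ≤ 0 := by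
  rw [← length_quot_smul, Module.length_ne_top_iff] at hfin
  exact S3406.supportDim_le_zero_of_isFiniteLength hfin

theorem supportDim_le_one (J : Ideal D) (ϖ : D) (hϖ : ϖ ∈ maximalIdeal D)
    (hfin : Module.length D (D ⧸ (J ⊔ Ideal.span {ϖ})) ≠ ⊤) :
    Module.supportDim D (D ⧸ J) ≤ 1 := by
  refine (Module.supportDim_le_supportDim_quotSMulTop_succ hϖ).trans ?_
  exact (add_le_add_left (supportDim_le J ϖ hfin) 1).trans (by simp)

theorem length_eq_sum (ϖ : D) (hϖ : ϖ ∈ maximalIdeal D) {ι : Type*} [Finite ι] (J : ι → Ideal D)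
    (hreg : ∀ a, IsSMulRegular (D ⧸ J a) ϖ)
    (hfin : ∀ a, Module.length D (D ⧸ (J a ⊔ Ideal.span {ϖ})) ≠ ⊤) :
    ∃ T : Finset (PrimeSpectrum D), (∀ p ∈ T, ϖ ∉ p.asIdeal ∧ ∃ a, J a ≤ p.asIdeal) ∧
      ∀ a, Module.length D (D ⧸ (J a ⊔ Ideal.span {ϖ})) =
        ∑ p ∈ T, Ring.ord (D ⧸ p.asIdeal) (Ideal.Quotient.mk _ ϖ) * locLen p.asIdeal (D ⧸ J a) := by
  classical
  have := Fintype.ofFinite ι
  have hF := fun a => S1833.support_diff_finite (R := D) (M := D ⧸ J a)
    (supportDim_le_one (J a) ϖ hϖ (hfin a))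
  have hmem : ∀ a (p : PrimeSpectrum D), p ∈ Module.support D (D ⧸ J a) ↔ J a ≤ p.asIdeal := by
    intro a p
    rw [Module.support_eq_zeroLocus, Ideal.annihilator_quotient]
    rfl
  refine ⟨Finset.univ.biUnion fun a => (hF a).toFinset, ?_, fun a => ?_⟩
  · intro p hp
    simp only [Finset.mem_biUnion, Finset.mem_univ, true_and, Set.Finite.mem_toFinset,
      Set.mem_setOf_eq] at hp
    obtain ⟨a, hpa, hpm⟩ := hp
    rw [hmem] at hpa
    refine ⟨fun h => hpm ?_, a, hpa⟩
    have h1 : p ∈ Module.support D (D ⧸ (J a ⊔ Ideal.span {ϖ})) := by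
      rw [Module.support_eq_zeroLocus, Ideal.annihilator_quotient]
      exact sup_le hpa ((Ideal.span_singleton_le_iff_mem _).2 h)
    have h2 := Module.length_ne_top_iff.1 (hfin a)
    have h3 := S3406.supportDim_le_zero_of_isFiniteLength h2
    have h4 : closedPoint D ∈ Module.support D (D ⧸ (J a ⊔ Ideal.span {ϖ})) :=
      Module.mem_support_mono (le_maximalIdeal p.2.ne_top) h1
    rw [Module.supportDim, Order.krullDim_nonpos_iff_forall_isMax] at h3
    have h5 := h3 ⟨p, h1⟩ (b := ⟨closedPoint D, h4⟩) (le_maximalIdeal p.2.ne_top)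
    exact le_antisymm (le_maximalIdeal p.2.ne_top) h5
  · have h1 := S1833.result D (D ⧸ J a) ϖ (supportDim_le_one (J a) ϖ hϖ (hfin a))
      (supportDim_le (J a) ϖ (hfin a))
    have h2 : Module.length D (LinearMap.ker (LinearMap.lsmul D (D ⧸ J a) ϖ)) = 0 := by
      have h3 : LinearMap.ker (LinearMap.lsmul D (D ⧸ J a) ϖ) = ⊥ := by
        rw [LinearMap.ker_eq_bot]
        exact hreg a
      rw [h3]
      exact Module.length_eq_zero
    rw [length_quot_smul, h2, zero_add, finsum_cond_eq_sum_of_cond_iff (t := (hF a).toFinset) _ (by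
      intro p _
      simp)] at h1
    rw [h1]
    refine Finset.sum_subset ?_ ?_
    · intro p hp
      exact Finset.mem_biUnion.2 ⟨a, Finset.mem_univ _, hp⟩
    · intro p hp hpa
      have h4 : locLen p.asIdeal (D ⧸ J a) = 0 := by
        by_cases h5 : J a ≤ p.asIdeal
        · exfalso
          simp only [Finset.mem_biUnion, Finset.mem_univ, true_and, Set.Finite.mem_toFinset,
            Set.mem_setOf_eq] at hp hpa
          obtain ⟨b, -, hpm⟩ := hp
          exact hpa ⟨(hmem a p).2 h5, hpm⟩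
        · exact locLen_quot_eq_zero _ _ h5
      change Ring.ord (D ⧸ p.asIdeal) (Ideal.Quotient.mk _ ϖ) * locLen p.asIdeal (D ⧸ J a) = 0
      rw [h4, mul_zero]

/-- The order of a non-unit is not zero. -/
theorem ord_ne_zero (p : Ideal D) [p.IsPrime] (ϖ : D) (hϖ : ϖ ∈ maximalIdeal D) :
    Ring.ord (D ⧸ p) (Ideal.Quotient.mk _ ϖ) ≠ 0 := by
  unfold Ring.ord
  rw [Ne, Module.length_eq_zero_iff, Ideal.Quotient.subsingleton_iff,
    Ideal.span_singleton_eq_top]
  intro h
  have : IsLocalHom (Ideal.Quotient.mk p) :=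
    IsLocalHom.of_surjective _ Ideal.Quotient.mk_surjective
  exact (IsLocalRing.mem_maximalIdeal ϖ).1 hϖ (isUnit_of_map_unit (Ideal.Quotient.mk p) ϖ h)

end Groth.Agent.Cyc.K91.DvrAlg
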