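import Groth.Agent.Cyc.K91.FibFin
import Groth.Agent.Ega4fib.H174.EquidimCrit

/-!
# Decompositions of fibre cycles over a discrete valuation ring

If over the generic point of a discrete valuation ring the cycle of a flat closed subscheme is a
combination of the cycles of flat closed subschemes, the same holds over the closed point.
-/

set_option autoImplicit false
universe u

open CategoryTheory CategoryTheory.Limits AlgebraicGeometry

namespace Groth.Agent.Cyc.K91.DvrFam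

open Groth.Agent.Divis.CartierBasic Groth.Agent.CycB Groth.Agent.CycB.FiberStalk
  Groth.Agent.CycB.LocQuot Groth.Agent.Cyc.K91.FibMult Groth.Agent.CycB.RelDim
  Groth.Agent.CycB.TrdegAlg

variable {X S : Scheme.{u}}

theorem exists_subschemeι_eq (I : X.IdealSheafData) {x : X} (hx : x ∈ I.support) :
    ∃ z, I.subschemeι z = x := by
  refine (FibFin.mem_support_ker_iff I.subschemeι x).1 ?_
  rwa [I.ker_subschemeι]

/-- Points at which the multiplicity is finite are generic in the fibre of the support. -/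
theorem eq_of_cI_ne_top (f : X ⟶ S) (I : X.IdealSheafData) {x x' : X} (h : cI f I x ≠ ⊤)
    (hs : x' ⤳ x) (hf : f x' = f x) (hx' : x' ∈ I.support) : x' = x := by
  obtain ⟨z', rfl⟩ := exists_subschemeι_eq I hx'
  obtain ⟨z, rfl⟩ := exists_subschemeι_eq I (hs.mem_closed I.support.isClosed hx')
  have h1 := FibFin.mult_eq_cI I.subschemeι f z
  rw [I.ker_subschemeι] at h1
  rw [← h1] at h
  have h2 : z' ⤳ z := (I.subschemeι).isEmbedding.isInducing.specializes_iff.1 hs
  rw [FlatProper.fibGeneric_of_length_ne_top (I.subschemeι ≫ f) z h z' hf h2]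

theorem cI_ne_top_of [IsLocallyNoetherian X] (f : X ⟶ S) (I : X.IdealSheafData) {x : X}
    (h : ∀ x', x' ⤳ x → f x' = f x → x' ∈ I.support → x' = x) : cI f I x ≠ ⊤ := by
  by_cases hx : x ∈ I.support
  · obtain ⟨z, rfl⟩ := exists_subschemeι_eq I hx
    have hN : IsLocallyNoetherian I.subscheme :=
      LocallyOfFiniteType.isLocallyNoetherian I.subschemeι
    have h1 := FibFin.mult_eq_cI I.subschemeι f z
    rw [I.ker_subschemeι] at h1
    rw [← h1]
    refine FlatDiv.mult_ne_top (I.subschemeι ≫ f) fun y hy hs => ?_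
    apply (I.subschemeι).isEmbedding.injective
    refine h _ (hs.map (I.subschemeι).continuous) hy ?_
    have h2 := I.range_subschemeι
    exact h2.le ⟨y, rfl⟩
  · have h4 : cI f I x = 0 := by
      by_contra h4
      exact hx ((Compare.cI_ne_zero_iff f I x).1 h4)
    rw [h4]
    exact ENat.zero_ne_top

theorem cI_ne_top_mono [IsLocallyNoetherian X] (f : X ⟶ S) {I J : X.IdealSheafData}
    (hIJ : ∀ x, x ∈ I.support → x ∈ J.support) {x : X} (h : cI f J x ≠ ⊤) : cI f I x ≠ ⊤ :=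
  cI_ne_top_of f I fun _ hs hf hx' => eq_of_cI_ne_top f J h hs hf (hIJ _ hx')

section Dvr

variable {R : Type u} [CommRing R] [IsDomain R] [IsDiscreteValuationRing R]
  (f : X ⟶ Spec (CommRingCat.of R)) [LocallyOfFiniteType f] (r : ℕ)
  (J : X.IdealSheafData) (hJflat : Flat (J.subschemeι ≫ f))
  (hJfin : ∀ x, x ∈ J.support → (cI f J x ≠ ⊤ ↔ rtd f x = r))
  (hJle : ∀ x, x ∈ J.support → rtd f x ≤ r)
  {A : Type*} [Fintype A] (Φ : A → X.IdealSheafData)
  (hΦflat : ∀ a, Flat ((Φ a).subschemeι ≫ f))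
  (hsupp : ∀ a x, x ∈ (Φ a).support → x ∈ J.support) (m : A → ℕ)
  (hgen : ∀ q, f q ≠ IsLocalRing.closedPoint R → cI f J q ≠ ⊤ →
    cI f J q = ∑ a, (m a : ℕ∞) * cI f (Φ a) q)
  (hdim : ∀ a q, f q ≠ IsLocalRing.closedPoint R → q ∈ (Φ a).support → cI f (Φ a) q ≠ ⊤ →
    rtd f q = r)

omit [Fintype A] in
include hJfin hJle hΦflat hsupp hdim in
theorem toNat_eq_zero_of_eq_top (q₀ : X) (hq₀ : f q₀ = IsLocalRing.closedPoint R)
    (hJ : cI f J q₀ = ⊤) (a : A) : (cI f (Φ a) q₀).toNat = 0 := by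
  obtain ⟨d1, d2⟩ := Compare.dvr_stalk_of_eq R (f q₀) hq₀
  have hN : IsLocallyNoetherian X := LocallyOfFiniteType.isLocallyNoetherian f
  by_contra h
  rw [ENat.toNat_eq_zero, not_or] at h
  obtain ⟨T, hT, q, w, hq, hsum⟩ := DvrSum.exists_sum f q₀ (fun _ : Unit => Φ a)
    (fun _ => hΦflat a) (fun _ => h.2)
  have hne : Nonempty T := by
    by_contra hem
    rw [not_nonempty_iff] at hem
    have h5 := hsum ()
    rw [Finset.univ_eq_empty, Finset.sum_empty] at h5
    exact h.1 h5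
  obtain ⟨i⟩ := hne
  obtain ⟨hs, hfq, hw, -, hqs⟩ := hq i
  have hqne : f (q i) ≠ IsLocalRing.closedPoint R := fun e => hfq (e.trans hq₀.symm)
  have hfin : cI f (Φ a) (q i) ≠ ⊤ := by
    intro htop
    apply h.2
    rw [hsum (), ENat.sum_eq_top]
    exact ⟨i, Finset.mem_univ _, by rw [htop, ENat.mul_top hw]⟩
  have hr := hdim a (q i) hqne hqs hfin
  have hr1 := Ega4fib.H174.EquidimCrit.rtd_le_of_maximal_fib f hs fun w' h1 h2 h3 =>
    eq_of_cI_ne_top f (Φ a) h.2 h2 h3 (h1.mem_closed (Φ a).support.isClosed hqs)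
  have hqJ : q₀ ∈ J.support := hsupp a _ (hs.mem_closed (Φ a).support.isClosed hqs)
  rw [hr] at hr1
  exact (hJfin q₀ hqJ).2 (le_antisymm (hJle q₀ hqJ) hr1) hJ

include hJflat hΦflat hsupp hgen in
theorem toNat_eq_of_ne_top (q₀ : X) (hq₀ : f q₀ = IsLocalRing.closedPoint R)
    (hJ : cI f J q₀ ≠ ⊤) :
    (cI f J q₀).toNat = ∑ a, m a * (cI f (Φ a) q₀).toNat := by
  obtain ⟨d1, d2⟩ := Compare.dvr_stalk_of_eq R (f q₀) hq₀
  have hN : IsLocallyNoetherian X := LocallyOfFiniteType.isLocallyNoetherian f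
  have hΦ : ∀ a, cI f (Φ a) q₀ ≠ ⊤ := fun a => cI_ne_top_mono f (hsupp a) hJ
  obtain ⟨T, hT, q, w, hq, hsum⟩ := DvrSum.exists_sum f q₀ (fun o : Option A => o.elim J Φ)
    (by
      rintro (_ | a)
      · exact hJflat
      · exact hΦflat a)
    (by
      rintro (_ | a)
      · exact hJ
      · exact hΦ a)
  have e1 : cI f J q₀ = ∑ i, w i * cI f J (q i) := hsum none
  have e2 : ∀ a, cI f (Φ a) q₀ = ∑ i, w i * cI f (Φ a) (q i) := fun a => hsum (some a)
  have hJq : ∀ i, cI f J (q i) ≠ ⊤ := by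
    intro i htop
    apply hJ
    rw [e1, ENat.sum_eq_top]
    exact ⟨i, Finset.mem_univ _, by
      rw [htop, ENat.mul_top (hq i).2.2.1]⟩
  have h1 : cI f J q₀ = ∑ a, (m a : ℕ∞) * cI f (Φ a) q₀ := by
    rw [e1]
    simp_rw [e2, Finset.mul_sum]
    rw [Finset.sum_comm]
    refine Finset.sum_congr rfl fun i _ => ?_
    rw [hgen (q i) (fun e => (hq i).2.1 (e.trans hq₀.symm)) (hJq i), Finset.mul_sum]
    exact Finset.sum_congr rfl fun a _ => by ring
  have h2 : ∀ a, (m a : ℕ∞) * cI f (Φ a) q₀ = ((m a * (cI f (Φ a) q₀).toNat : ℕ) : ℕ∞) := by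
    intro a
    rw [Nat.cast_mul, ENat.natCast_toNat (hΦ a)]
  simp_rw [h2] at h1
  rw [h1, ← Nat.cast_sum, ENat.toNat_natCast]

include hJflat hJfin hJle hΦflat hsupp hgen hdim in
theorem toNat_eq (q₀ : X) (hq₀ : f q₀ = IsLocalRing.closedPoint R) :
    (cI f J q₀).toNat = ∑ a, m a * (cI f (Φ a) q₀).toNat := by
  by_cases hJ : cI f J q₀ = ⊤
  · rw [hJ, ENat.toNat_top]
    refine (Finset.sum_eq_zero fun a _ => ?_).symm
    rw [toNat_eq_zero_of_eq_top f r J hJfin hJle Φ hΦflat hsupp hdim q₀ hq₀ hJ a, mul_zero]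
  · exact toNat_eq_of_ne_top f J hJflat Φ hΦflat hsupp m hgen q₀ hq₀ hJ

end Dvr

end Groth.Agent.Cyc.K91.DvrFam
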