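import Groth.Agent.Cyc.K91.FibMult
import Groth.Agent.Cyc.K91.DvrAlg
import Groth.Agent.CycB.GysinFib
import Groth.Agent.Fga.RelCart

/-!
# The multiplicity of a closed fibre over a discrete valuation ring as a sum over generic points
-/

set_option autoImplicit false
universe u

open CategoryTheory CategoryTheory.Limits AlgebraicGeometry

namespace Groth.Agent.Cyc.K91.DvrSum

open Groth.Agent.Divis.CartierBasic Groth.Agent.CycB Groth.Agent.CycB.FiberStalk
  Groth.Agent.CycB.LocQuot Groth.Agent.Ega4late.H533.DescScheme Groth.Agent.Cyc.K91.FibMult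

variable {X S : Scheme.{u}}

theorem fibIdeal_eq_bot (f : X ⟶ S) {q t : X} (h : q ⤳ t) (hne : f q ≠ f t)
    [IsDomain (S.presheaf.stalk (f t))] [IsDiscreteValuationRing (S.presheaf.stalk (f t))] :
    FiberStalk.fibIdeal f q = ⊥ := by
  have h' : f q ⤳ f t := h.map f.continuous
  have h1 : IsLocalRing.maximalIdeal (S.presheaf.stalk (f q)) = ⊥ := by
    letI := StalkLoc.specAlg h'
    have hloc := StalkLen.isLocalization_primeOf h'
    rw [← IsLocalization.AtPrime.map_eq_maximalIdeal (primeOf h').asIdeal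
      (S.presheaf.stalk (f q))]
    have h2 : (primeOf h').asIdeal = ⊥ := by
      by_contra hb
      have h3 : (primeOf h').asIdeal.IsMaximal := (primeOf h').2.isMaximal hb
      have h4 := IsLocalRing.eq_maximalIdeal h3
      apply hne
      rw [← primeOf_inj h' (specializes_refl (f t)), primeOf_refl]
      exact PrimeSpectrum.ext h4
    rw [h2, Ideal.map_bot]
  unfold FiberStalk.fibIdeal
  rw [h1, Ideal.map_bot]

theorem cI_eq_lI (f : X ⟶ S) {q t : X} (h : q ⤳ t) (hne : f q ≠ f t)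
    [IsDomain (S.presheaf.stalk (f t))] [IsDiscreteValuationRing (S.presheaf.stalk (f t))]
    (I : X.IdealSheafData) : cI f I q = lI I q := by
  unfold cI lI
  rw [fibIdeal_eq_bot f h hne, sup_bot_eq]

theorem exists_sum [IsLocallyNoetherian X] (f : X ⟶ S) (t : X)
    [IsDomain (S.presheaf.stalk (f t))] [IsDiscreteValuationRing (S.presheaf.stalk (f t))]
    {ι : Type*} [Finite ι] (W : ι → X.IdealSheafData)
    (hflat : ∀ a, Flat ((W a).subschemeι ≫ f)) (hfin : ∀ a, cI f (W a) t ≠ ⊤) :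
    ∃ (T : Type u) (_ : Fintype T) (q : T → X) (w : T → ℕ∞),
      (∀ i, q i ⤳ t ∧ f (q i) ≠ f t ∧ w i ≠ 0 ∧ ∃ a, q i ∈ (W a).support) ∧
      ∀ a, cI f (W a) t = ∑ i, w i * cI f (W a) (q i) := by
  obtain ⟨ϖ₀, hϖ₀⟩ := IsDiscreteValuationRing.exists_irreducible (S.presheaf.stalk (f t))
  have hmax : IsLocalRing.maximalIdeal (S.presheaf.stalk (f t)) = Ideal.span {ϖ₀} :=
    hϖ₀.maximalIdeal_eq
  set ϖ := (f.stalkMap t).hom ϖ₀ with hϖ
  have hfib : FiberStalk.fibIdeal f t = Ideal.span {ϖ} := by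
    unfold FiberStalk.fibIdeal
    rw [hmax, Ideal.map_span, Set.image_singleton]
  have hϖm : ϖ ∈ IsLocalRing.maximalIdeal (X.presheaf.stalk t) := by
    refine FiberStalk.fibIdeal_le f t ?_
    rw [hfib]
    exact Ideal.mem_span_singleton_self ϖ
  have hreg : ∀ a, IsSMulRegular (X.presheaf.stalk t ⧸ stalkIdeal (W a) t) ϖ := by
    intro a
    have h1 := Fga.RelCart.flat_mk_comp_stalkMap f (W a) t
    let _ := ((Ideal.Quotient.mk (stalkIdeal (W a) t)).comp (f.stalkMap t).hom).toAlgebra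
    have h2 : Module.Flat (S.presheaf.stalk (f t)) (X.presheaf.stalk t ⧸ stalkIdeal (W a) t) := h1
    have h3 : IsSMulRegular (S.presheaf.stalk (f t)) ϖ₀ :=
      (IsRegular.of_ne_zero hϖ₀.ne_zero).left.isSMulRegular
    have h4 : IsSMulRegular (X.presheaf.stalk t ⧸ stalkIdeal (W a) t)
        (algebraMap (S.presheaf.stalk (f t)) (X.presheaf.stalk t ⧸ stalkIdeal (W a) t) ϖ₀) :=
      IsSMulRegular.of_flat h3
    intro x y hxy
    obtain ⟨x, rfl⟩ := Ideal.Quotient.mk_surjective x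
    obtain ⟨y, rfl⟩ := Ideal.Quotient.mk_surjective y
    exact h4 hxy
  obtain ⟨T, hT, hsum⟩ := DvrAlg.length_eq_sum ϖ hϖm (fun a => stalkIdeal (W a) t) hreg (by
    intro a
    have h1 := hfin a
    unfold cI at h1
    rwa [hfib] at h1)
  have hq : ∀ p : PrimeSpectrum (X.presheaf.stalk t), ∃ (z : X) (hz : z ⤳ t), primeOf hz = p :=
    fun p => ⟨ptOf p, ptOf_specializes p, primeOf_ptOf p⟩
  choose q hq1 hq2 using hq
  have hne : ∀ p ∈ T, f (q p) ≠ f t := by
    intro p hp he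
    have h1 := (GysinFib.fibIdeal_le_primeOf_iff f (hq1 p)).2 he
    rw [hq2, hfib] at h1
    exact (hT p hp).1 (h1 (Ideal.mem_span_singleton_self ϖ))
  refine ⟨T, inferInstance, fun p => q p.1,
    fun p => Ring.ord (X.presheaf.stalk t ⧸ p.1.asIdeal) (Ideal.Quotient.mk _ ϖ), ?_, ?_⟩
  · rintro ⟨p, hp⟩
    refine ⟨hq1 p, hne p hp, DvrAlg.ord_ne_zero _ _ hϖm, ?_⟩
    obtain ⟨a, ha⟩ := (hT p hp).2
    refine ⟨a, ?_⟩
    have h1 := (fromSpecStalk_mem_support_iff (W a) t p).2 ha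
    have h2 := fromSpecStalk_primeOf (hq1 p)
    rw [hq2] at h2
    rwa [h2] at h1
  · intro a
    have h1 := hsum a
    unfold cI at hfin
    rw [cI, hfib, h1, ← Finset.sum_coe_sort T]
    refine Finset.sum_congr rfl ?_
    rintro ⟨p, hp⟩ -
    congr 1
    rw [cI_eq_lI f (hq1 p) (hne p hp)]
    have h3 := GysinFib.locLen_quot (hq1 p) (stalkIdeal (W a) t)
    rw [hq2, Ega4late.H533.NormalDesc.stalkIdeal_specializes] at h3
    exact h3

end Groth.Agent.Cyc.K91.DvrSum
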