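import Groth.Agent.Cyc.K91.FatPt
import Groth.Agent.LocImm.K947.Nhd
import Groth.Agent.S3406

/-!
# Fat points: the cycle of the generic fibre
-/

set_option autoImplicit false
universe u

open CategoryTheory CategoryTheory.Limits AlgebraicGeometry

namespace Groth.Agent.Cyc.K91.FatGen

open Groth.Agent.Divis.CartierBasic Groth.Agent.CycB Groth.Agent.CycB.FiberStalk
  Groth.Agent.CycB.LocQuot Groth.Agent.Cyc.K91.FibMult Groth.Agent.Cyc.K91.RedStalk

variable {X S Z : Scheme.{u}}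

theorem eq_of_mem_irreducibleComponents {s : S} (h : closure {s} ∈ irreducibleComponents S)
    (s' : S) (hs : s' ⤳ s) : s' = s := by
  have h1 : closure {s} ⊆ closure {s'} := specializes_iff_closure_subset.1 hs
  have h2 := h.2 (isIrreducible_singleton.closure : IsIrreducible (closure {s'})) h1
  exact (hs.antisymm (specializes_iff_closure_subset.2 h2)).eq

theorem nilradical_eq_maximalIdeal (s : S) (hs : ∀ s', s' ⤳ s → s' = s) :
    nilradical (S.presheaf.stalk s) = IsLocalRing.maximalIdeal (S.presheaf.stalk s) := by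
  have h1 : Ring.KrullDimLE 0 (S.presheaf.stalk s) := by
    refine Ring.KrullDimLE.mk₀ fun J hJ => ?_
    obtain ⟨y, hy, rfl⟩ := exists_eq_ker J
    have e := hs y hy
    subst e
    rw [ker_refl]
    infer_instance
  exact Ring.KrullDimLE.nilradical_eq_maximalIdeal _

/-- the multiplicity of the statement. -/
noncomputable def mN (g : Z ⟶ S) (ζ : Z) : ℕ∞ :=
  Module.length (Z.presheaf.stalk ζ) (Z.presheaf.stalk ζ ⧸ Ideal.map (g.stalkMap ζ).hom
    (nilradical (S.presheaf.stalk (g ζ))))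

theorem mN_eq_mult (g : Z ⟶ S) (ζ : Z) (hs : ∀ s', s' ⤳ g ζ → s' = g ζ) :
    mN g ζ = FlatDiv.mult g ζ := by
  unfold mN FlatDiv.mult
  rw [nilradical_eq_maximalIdeal (g ζ) hs]

theorem eq_of_mN_ne_top (g : Z ⟶ S) {ζ z' : Z} (h : mN g ζ ≠ ⊤) (hs : z' ⤳ ζ) : z' = ζ := by
  unfold mN at h
  rw [Module.length_ne_top_iff] at h
  have h1 : Ideal.map (g.stalkMap ζ).hom (nilradical (S.presheaf.stalk (g ζ))) ≤
      (primeOf hs).asIdeal := by
    refine Ideal.map_le_iff_le_comap.2 fun a ha => ?_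
    have h2 : IsNilpotent ((g.stalkMap ζ).hom a) := ((mem_nilradical.1 ha)).map _
    exact nilpotent_iff_mem_prime.1 h2 _ (primeOf hs).isPrime
  have h3 := S3406.isMaximal_of_mem_support h (primeOf hs) (by
    rw [Module.support_eq_zeroLocus, Ideal.annihilator_quotient, PrimeSpectrum.mem_zeroLocus,
      SetLike.coe_subset_coe]
    exact h1)
  have h4 : primeOf hs = primeOf (specializes_refl ζ) := by
    apply PrimeSpectrum.ext
    rw [IsLocalRing.eq_maximalIdeal h3, primeOf_refl]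
    rfl
  exact (primeOf_inj hs (specializes_refl ζ)).1 h4

theorem finite_mN [TopologicalSpace.NoetherianSpace Z] (g : Z ⟶ S) :
    {ζ : Z | (mN g ζ).toNat ≠ 0}.Finite := by
  refine (K947.Nhd.finite_maximalPoints Z).subset fun ζ hζ z' hs => ?_
  refine eq_of_mN_ne_top g (fun htop => hζ ?_) hs
  rw [htop]
  rfl

section Generic

variable (p : X ⟶ S) (ι : Z ⟶ X) [IsClosedImmersion ι] {A : Finset Z}
  (hA : ∀ ζ : Z, ζ ∈ A ↔ (mN (ι ≫ p) ζ).toNat ≠ 0)

include hA in
/-- the cycle of the fibre over a generic point of the base. -/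
theorem cI_eq_sum (x : X) (hs : ∀ s', s' ⤳ p x → s' = p x) (hx : cI p ι.ker x ≠ ⊤) :
    cI p ι.ker x = ∑ ζ ∈ A, ((mN (ι ≫ p) ζ).toNat : ℕ∞) * cI p (redI (ι ζ)) x := by
  classical
  have hzero : ∀ ζ : Z, ¬ (ι ζ ⤳ x) → cI p (redI (ι ζ)) x = 0 := by
    intro ζ h
    by_contra h4
    exact h ((mem_support_redI _ _).1 ((Compare.cI_ne_zero_iff p _ x).1 h4))
  by_cases hxZ : ∃ z, ι z = x
  · obtain ⟨z, rfl⟩ := hxZ
    have hm : mN (ι ≫ p) z = cI p ι.ker (ι z) := by
      rw [mN_eq_mult (ι ≫ p) z hs, FibFin.mult_eq_cI]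
    have hzA : z ∈ A := by
      rw [hA, hm, Ne, ENat.toNat_eq_zero]
      rintro (h | h)
      · exact (Compare.cI_ne_zero_iff p ι.ker (ι z)).2
          ((FibFin.mem_support_ker_iff ι _).2 ⟨z, rfl⟩) h
      · exact hx h
    rw [Finset.sum_eq_single_of_mem z hzA, cI_redI_self, mul_one, hm, ENat.natCast_toNat hx]
    intro ζ _ hne
    rw [hzero ζ, mul_zero]
    intro h
    exact hne <| ι.isEmbedding.injective (DvrFam.eq_of_cI_ne_top p ι.ker hx h
      (hs _ (h.map p.continuous)) ((FibFin.mem_support_ker_iff ι _).2 ⟨ζ, rfl⟩))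
  · have h1 : cI p ι.ker x = 0 := by
      by_contra h4
      exact hxZ ((FibFin.mem_support_ker_iff ι _).1 ((Compare.cI_ne_zero_iff p _ x).1 h4))
    rw [h1]
    refine (Finset.sum_eq_zero fun ζ _ => ?_).symm
    rw [hzero ζ, mul_zero]
    intro h
    exact hxZ ((FibFin.mem_support_ker_iff ι _).1 (h.mem_closed ι.ker.support.isClosed
      ((FibFin.mem_support_ker_iff ι _).2 ⟨ζ, rfl⟩)))

end Generic

end Groth.Agent.Cyc.K91.FatGen
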