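import Groth.Agent.Cyc.K91.FatGen
import Groth.Agent.CycB.SpDVR
import Groth.Agent.Cyc.K308.Split

/-!
# Fat points: flat closures and the main comparison
-/

set_option autoImplicit false
universe u

open CategoryTheory CategoryTheory.Limits AlgebraicGeometry

namespace Groth.Agent.Cyc.K91.FatMain

open Groth.Agent.Divis.CartierBasic Groth.Agent.CycB Groth.Agent.CycB.FiberStalk
  Groth.Agent.CycB.LocQuot Groth.Agent.Cyc.K91.FibMult Groth.Agent.Cyc.K91.RedStalk
  Groth.Agent.Cyc.K91.FatPt Groth.Agent.Cyc.K91.FatGen Groth.Agent.CycB.TrdegAlg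
  Groth.Agent.CycB.RelDim

variable {X S Z V : Scheme.{u}} (p : X ⟶ S) {R : Type u} [CommRing R] [IsDomain R]
  [IsDiscreteValuationRing R] (x₁ : Spec (CommRingCat.of R) ⟶ S) (i : V ⟶ X)

/-- the inclusion of the generic point of `Spec R`. -/
noncomputable abbrev etaK (R : Type u) [CommRing R] [IsDomain R] :
    Spec (CommRingCat.of (FractionRing R)) ⟶ Spec (CommRingCat.of R) :=
  Spec.map (CommRingCat.ofHom (algebraMap R (FractionRing R)))

instance flat_etaK : Flat (etaK R) := by
  rw [Flat.SpecMap_iff]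
  exact RingHom.flat_algebraMap_iff.mpr (IsLocalization.flat _ (nonZeroDivisors R))

/-- the inclusion of the generic fibre. -/
noncomputable abbrev umap :
    pullback (i ≫ p) (etaK R ≫ x₁) ⟶ pullback (i ≫ p) x₁ :=
  pullback.map (i ≫ p) (etaK R ≫ x₁) (i ≫ p) x₁ (𝟙 _) (etaK R) (𝟙 S)
    ((Category.comp_id _).trans (Category.id_comp _).symm) (Category.comp_id _)

omit [IsDiscreteValuationRing R] in
theorem umap_eq_gmap : umap p x₁ i = gmap (i ≫ p) x₁ (etaK R) := by
  apply pullback.hom_ext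
  · rw [pullback.lift_fst, pullback.lift_fst, Category.comp_id]
  · rw [pullback.lift_snd, pullback.lift_snd]

omit [IsDiscreteValuationRing R] in
theorem isPullback_umap :
    IsPullback (umap p x₁ i) (pullback.snd (i ≫ p) (etaK R ≫ x₁)) (pullback.snd (i ≫ p) x₁)
      (etaK R) := by
  rw [umap_eq_gmap]
  exact isPullback_gmap (i ≫ p) x₁ (etaK R)

instance flat_umap : Flat (umap p x₁ i) :=
  MorphismProperty.of_isPullback (P := @Flat) (isPullback_umap p x₁ i).flip inferInstance

instance quasiCompact_umap : QuasiCompact (umap p x₁ i) :=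
  MorphismProperty.of_isPullback (P := @QuasiCompact) (isPullback_umap p x₁ i).flip inferInstance

theorem exists_umap_eq (z : ↥(pullback (i ≫ p) x₁))
    (hz : pullback.snd (i ≫ p) x₁ z ≠ IsLocalRing.closedPoint R) : ∃ w, umap p x₁ i w = z := by
  have h1 := SpDVR.eq_genericPoint_of_ne R _ hz
  have h2 : etaK R (IsLocalRing.closedPoint (FractionRing R)) =
      genericPoint ↥(Spec (CommRingCat.of R)) := by
    rw [genericPoint_eq_bot_of_affine]
    apply PrimeSpectrum.ext
    change Ideal.comap (algebraMap R (FractionRing R))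
      (IsLocalRing.maximalIdeal (FractionRing R)) = ⊥
    rw [IsLocalRing.maximalIdeal_eq_bot, ← RingHom.ker_eq_comap_bot,
      ← RingHom.injective_iff_ker_eq_bot]
    exact IsFractionRing.injective R (FractionRing R)
  have sq := isPullback_umap p x₁ i
  obtain ⟨t, ht1, ht2⟩ := Scheme.Pullback.exists_preimage_pullback
    (f := pullback.snd (i ≫ p) x₁) (g := etaK R) z
    (IsLocalRing.closedPoint (FractionRing R)) (h1.trans h2.symm)
  refine ⟨sq.isoPullback.inv t, ?_⟩
  rw [← Scheme.Hom.comp_apply, sq.isoPullback_inv_fst, ht1]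

/-- the ideal of the flat closure of the generic fibre, in `X ×_S Spec R`. -/
noncomputable abbrev PhiI : (pullback p x₁).IdealSheafData :=
  ((umap p x₁ i).ker.subschemeι ≫ vmap p x₁ i).ker

theorem flat_PhiI [IsClosedImmersion i] :
    Flat ((PhiI p x₁ i).subschemeι ≫ pullback.snd p x₁) := by
  have h1 : Flat (umap p x₁ i ≫ pullback.snd (i ≫ p) x₁) := by
    rw [(isPullback_umap p x₁ i).w]
    have : Subsingleton (Spec (CommRingCat.of (FractionRing R))) :=
      inferInstanceAs (Subsingleton (PrimeSpectrum (FractionRing R)))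
    infer_instance
  have h2 := K265.Colon.flat_imageι (pullback.snd (i ≫ p) x₁) (umap p x₁ i)
  have h3 : Flat (((umap p x₁ i).ker.subschemeι ≫ vmap p x₁ i) ≫ pullback.snd p x₁) := by
    rw [Category.assoc, vmap_snd]
    exact h2
  exact FibFin.flat_subschemeι _ _

theorem stalkIdeal_PhiI [IsClosedImmersion i] (q : ↥(pullback p x₁))
    (hq : pullback.snd p x₁ q ≠ IsLocalRing.closedPoint R) :
    stalkIdeal (PhiI p x₁ i) q = stalkIdeal (i.ker.comap (pullback.fst p x₁)) q := by
  rw [← ker_vmap]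
  by_cases hx : ∃ z, vmap p x₁ i z = q
  · obtain ⟨z, rfl⟩ := hx
    obtain ⟨w, rfl⟩ := exists_umap_eq p x₁ i z (by
      rw [← Scheme.Hom.comp_apply, vmap_snd] at hq
      exact hq)
    exact stalkIdeal_ker_comp _ _ _ (stalkIdeal_ker_of_flat _ _)
  · rw [(notMem_support_iff_stalkIdeal_eq_top _ q).1, (notMem_support_iff_stalkIdeal_eq_top _ q).1]
    · rwa [FibFin.mem_support_ker_iff]
    · rw [FibFin.mem_support_ker_iff]
      rintro ⟨z, rfl⟩
      exact hx ⟨_, rfl⟩

omit [IsDiscreteValuationRing R] in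
theorem mem_support_PhiI [IsClosedImmersion i] {q : ↥(pullback p x₁)}
    (hq : q ∈ (PhiI p x₁ i).support) : pullback.fst p x₁ q ∈ i.ker.support := by
  obtain ⟨z, rfl⟩ := (FibFin.mem_support_ker_iff _ _).1 hq
  rw [FibFin.mem_support_ker_iff]
  refine ⟨pullback.fst (i ≫ p) x₁ ((umap p x₁ i).ker.subschemeι z), ?_⟩
  have h := congr($(vmap_fst p x₁ i) ((umap p x₁ i).ker.subschemeι z))
  rw [Scheme.Hom.comp_apply, Scheme.Hom.comp_apply] at h
  exact h.symm

section Main

variable (ι : Z ⟶ X) [IsClosedImmersion ι] (r : ℕ)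

theorem cI_PhiI (x : X) (q : ↥(pullback p x₁))
    (hq : pullback.snd p x₁ q ≠ IsLocalRing.closedPoint R) :
    cI (pullback.snd p x₁) (PhiI p x₁ (redI x).subschemeι) q =
      cI (pullback.snd p x₁) ((redI x).comap (pullback.fst p x₁)) q := by
  unfold cI
  rw [stalkIdeal_PhiI p x₁ _ q hq, Scheme.IdealSheafData.ker_subschemeι]

theorem toNat_eq_sum [IsNoetherian S] [LocallyOfFiniteType p] [Flat (ι ≫ p)]
    (hZ : Cyc.HasRelDim (ι ≫ p) r)
    (hx₁ : ∀ s', s' ⤳ x₁ (genericPoint ↥(Spec (CommRingCat.of R))) →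
      s' = x₁ (genericPoint ↥(Spec (CommRingCat.of R))))
    (q₀ : ↥(pullback p x₁)) (hq₀ : pullback.snd p x₁ q₀ = IsLocalRing.closedPoint R)
    (A : Finset Z) (hA : ∀ ζ : Z, ζ ∈ A ↔ (mN (ι ≫ p) ζ).toNat ≠ 0) :
    (cI (pullback.snd p x₁) (ι.ker.comap (pullback.fst p x₁)) q₀).toNat =
      ∑ ζ ∈ A, (mN (ι ≫ p) ζ).toNat *
        (cI (pullback.snd p x₁) (PhiI p x₁ (redI (ι ζ)).subschemeι) q₀).toNat := by
  classical
  have hNX : IsLocallyNoetherian X := LocallyOfFiniteType.isLocallyNoetherian p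
  have sq := IsPullback.of_hasPullback p x₁
  have hNR : IsLocallyNoetherian (pullback p x₁) :=
    LocallyOfFiniteType.isLocallyNoetherian (pullback.snd p x₁)
  have hNV : IsLocallyNoetherian (pullback (ι ≫ p) x₁) :=
    LocallyOfFiniteType.isLocallyNoetherian (pullback.snd (ι ≫ p) x₁)
  have hr : Cyc.HasRelDim (vmap p x₁ ι ≫ pullback.snd p x₁) r := by
    rw [vmap_snd]
    exact K308.Grp.hasRelDim_of_isPullback (IsPullback.of_hasPullback (ι ≫ p) x₁).flip hZ
  have hflat : Flat (vmap p x₁ ι ≫ pullback.snd p x₁) := by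
    rw [vmap_snd]
    infer_instance
  have hker := ker_vmap p x₁ ι
  have hgenpt : ∀ q : ↥(pullback p x₁), pullback.snd p x₁ q ≠ IsLocalRing.closedPoint R →
      ∀ s', s' ⤳ p (pullback.fst p x₁ q) → s' = p (pullback.fst p x₁ q) := by
    intro q hq
    have h1 := SpDVR.eq_genericPoint_of_ne R _ hq
    have h2 := congr($(sq.w) q)
    rw [Scheme.Hom.comp_apply, Scheme.Hom.comp_apply, h1] at h2
    rw [h2]
    exact hx₁
  have hJfin : ∀ x, x ∈ (ι.ker.comap (pullback.fst p x₁)).support →
      (cI (pullback.snd p x₁) (ι.ker.comap (pullback.fst p x₁)) x ≠ ⊤ ↔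
        rtd (pullback.snd p x₁) x = r) := by
    rw [← hker]
    exact fun x hx => FibFin.cI_ne_top_iff_rtd (vmap p x₁ ι) (pullback.snd p x₁) hr hx
  have key := DvrFam.toNat_eq (pullback.snd p x₁) r (ι.ker.comap (pullback.fst p x₁))
    (by
      rw [← hker]
      exact FibFin.flat_subschemeι (vmap p x₁ ι) (pullback.snd p x₁))
    hJfin
    (by
      rw [← hker]
      exact fun x hx => FibFin.rtd_le_of_mem (vmap p x₁ ι) (pullback.snd p x₁) hr hx)
    (A := A) (fun ζ => PhiI p x₁ (redI (ι ζ.1)).subschemeι)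
    (fun ζ => flat_PhiI p x₁ _)
    (by
      intro ζ q hq
      have h1 := mem_support_PhiI p x₁ _ hq
      rw [Scheme.IdealSheafData.ker_subschemeι, mem_support_redI] at h1
      rw [← Compare.cI_ne_zero_iff (pullback.snd p x₁)]
      obtain ⟨e, he0, he⟩ := exists_factor sq q
      rw [he]
      refine mul_ne_zero ?_ he0
      rw [Compare.cI_ne_zero_iff]
      exact h1.mem_closed ι.ker.support.isClosed
        ((FibFin.mem_support_ker_iff ι _).2 ⟨ζ.1, rfl⟩))
    (fun ζ => (mN (ι ≫ p) ζ.1).toNat)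
    (by
      intro q hq hfin
      obtain ⟨e, he0, he⟩ := exists_factor sq q
      have h1 : cI p ι.ker (pullback.fst p x₁ q) ≠ ⊤ := by
        intro htop
        apply hfin
        rw [he, htop, ENat.top_mul he0]
      rw [he, cI_eq_sum p ι hA _ (hgenpt q hq) h1, Finset.sum_mul, ← Finset.sum_coe_sort A]
      refine Finset.sum_congr rfl fun ζ _ => ?_
      rw [cI_PhiI p x₁ (ι ζ.1) q hq, he, mul_assoc])
    (by
      intro ζ q hq hqs hfin
      obtain ⟨e, he0, he⟩ := exists_factor sq q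
      have hne := (Compare.cI_ne_zero_iff (pullback.snd p x₁) _ q).2 hqs
      rw [cI_PhiI p x₁ (ι ζ.1) q hq, he] at hne hfin
      have h0 := left_ne_zero_of_mul hne
      have h1 : cI p (redI (ι ζ.1)) (pullback.fst p x₁ q) ≠ ⊤ := by
        intro htop
        apply hfin
        rw [htop, ENat.top_mul he0]
      have h2 : e ≠ ⊤ := by
        intro htop
        apply hfin
        rw [htop, ENat.mul_top h0]
      have hs := (mem_support_redI _ _).1 ((Compare.cI_ne_zero_iff p _ _).1 h0)
      have hx := DvrFam.eq_of_cI_ne_top p (redI (ι ζ.1)) h1 hs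
        (hgenpt q hq _ (hs.map p.continuous)) ((mem_support_redI _ _).2 (specializes_refl _))
      have hζ := (hA ζ.1).1 ζ.2
      have h3 : cI p ι.ker (pullback.fst p x₁ q) ≠ ⊤ := by
        rw [← hx]
        refine DvrFam.cI_ne_top_of p ι.ker fun x' hs' _ hx' => ?_
        obtain ⟨z', rfl⟩ := (FibFin.mem_support_ker_iff ι _).1 hx'
        have h4 : z' ⤳ ζ.1 := ι.isEmbedding.isInducing.specializes_iff.1 hs'
        rw [eq_of_mN_ne_top (ι ≫ p) (fun htop => hζ (by rw [htop]; rfl)) h4]
      have h5 : cI p ι.ker (pullback.fst p x₁ q) ≠ 0 := by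
        rw [Compare.cI_ne_zero_iff, FibFin.mem_support_ker_iff]
        exact ⟨ζ.1, hx⟩
      refine (hJfin q ?_).1 ?_
      · rw [← Compare.cI_ne_zero_iff (pullback.snd p x₁), he]
        exact mul_ne_zero h5 he0
      · rw [he]
        exact WithTop.mul_ne_top h3 h2)
    q₀ hq₀
  rw [key, ← Finset.sum_coe_sort A]

end Main

end Groth.Agent.Cyc.K91.FatMain
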