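import Groth.Agent.Cyc.K91.RedStalk
import Groth.Agent.FlatMor.K265.Colon
import Groth.Agent.Fga.HilbClosed

/-!
# Fat points: closed subschemes of base changes
-/

set_option autoImplicit false
universe u

open CategoryTheory CategoryTheory.Limits AlgebraicGeometry

namespace Groth.Agent.Cyc.K91.FatPt

open Groth.Agent.Divis.CartierBasic Groth.Agent.CycB Groth.Agent.CycB.FiberStalk
  Groth.Agent.CycB.LocQuot Groth.Agent.Cyc.K91.FibMult

variable {X S P Y W : Scheme.{u}}

theorem subschemeFun_eq (i : W ⟶ Y) [IsClosedImmersion i] (t : Y) :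
    Cyc.subschemeFun (fun _ => (0 : ℤ)) 0 i t = ((lI i.ker t).toNat : ℤ) := by
  unfold Cyc.subschemeFun
  rw [if_pos rfl]
  by_cases hx : ∃ z, i z = t
  · obtain ⟨z, rfl⟩ := hx
    have h1 : {w : W | i w = i z} = {z} := by
      ext w
      simp only [Set.mem_ofPred_eq, Set.mem_singleton_iff]
      exact i.isEmbedding.injective.eq_iff
    rw [h1, finsum_mem_singleton]
    congr 2
    unfold lI
    have hk := Divis.CartierStalk.ker_stalkMap i z
    rw [FiberMap.length_quot_map_of_surjective (i.stalkMap z).hom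
      (i.stalkMap_surjective z) (stalkIdeal i.ker (i z)) hk.le]
    have h1 : (stalkIdeal i.ker (i z)).map (i.stalkMap z).hom = ⊥ := by
      rw [← hk, Ideal.map_eq_bot_iff_le_ker]
    rw [h1]
    exact (Submodule.quotEquivOfEqBot (⊥ : Ideal (W.presheaf.stalk z)) rfl).symm.length_eq
  · have h1 : {z : W | i z = t} = ∅ := by
      ext w
      simp only [Set.mem_ofPred_eq, Set.mem_empty_iff_false, iff_false]
      exact fun h => hx ⟨w, h⟩
    rw [h1, finsum_mem_empty]
    have h2 : lI i.ker t = 0 := by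
      unfold lI
      rw [Module.length_eq_zero_iff, Ideal.Quotient.subsingleton_iff,
        ← notMem_support_iff_stalkIdeal_eq_top, FibFin.mem_support_ker_iff]
      exact hx
    rw [h2]
    rfl

theorem cI_of_field {k : Type u} [Field k] (f : Y ⟶ Spec (CommRingCat.of k))
    (I : Y.IdealSheafData) (t : Y) : cI f I t = lI I t := by
  have h : FiberStalk.fibIdeal f t = ⊥ := by
    rw [eq_bot_iff]
    refine Ideal.map_le_iff_le_comap.2 fun a ha => ?_
    rcases FiberStalk.stalk_Spec_field (K := CommRingCat.of k) (Field.toIsField k) (f t) a with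
      h | h
    · rw [h]
      exact zero_mem _
    · exact absurd h ((IsLocalRing.mem_maximalIdeal a).1 ha)
  unfold cI lI
  rw [h, sup_bot_eq]

section Square

variable {T T₀ V : Scheme.{u}} (p : X ⟶ S) (x₁ : T ⟶ S) (x₀ : T₀ ⟶ T)

/-- the base change `X ×_S T₀ ⟶ X ×_S T`. -/
noncomputable abbrev gmap : pullback p (x₀ ≫ x₁) ⟶ pullback p x₁ :=
  pullback.lift (pullback.fst p (x₀ ≫ x₁)) (pullback.snd p (x₀ ≫ x₁) ≫ x₀)
    (by rw [pullback.condition, Category.assoc])

theorem isPullback_gmap :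
    IsPullback (gmap p x₁ x₀) (pullback.snd p (x₀ ≫ x₁)) (pullback.snd p x₁) x₀ := by
  refine IsPullback.of_right (t := IsPullback.of_hasPullback p x₁) ?_ (pullback.lift_snd _ _ _)
  rw [pullback.lift_fst]
  exact IsPullback.of_hasPullback p (x₀ ≫ x₁)

/-- the base change `V ×_S T ⟶ X ×_S T` of `V ⟶ X`. -/
noncomputable abbrev vmap (i : V ⟶ X) : pullback (i ≫ p) x₁ ⟶ pullback p x₁ :=
  pullback.map (i ≫ p) x₁ p x₁ i (𝟙 _) (𝟙 S) (Category.comp_id _)
    ((Category.comp_id _).trans (Category.id_comp _).symm)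

theorem isPullback_vmap (i : V ⟶ X) :
    IsPullback (pullback.fst (i ≫ p) x₁) (vmap p x₁ i) i (pullback.fst p x₁) := by
  have h1 : IsPullback (pullback.snd p x₁) (pullback.fst p x₁) x₁ p :=
    (IsPullback.of_hasPullback p x₁).flip
  refine IsPullback.flip (IsPullback.of_right (t := h1) ?_ (pullback.lift_fst _ _ _))
  rw [pullback.lift_snd, Category.comp_id]
  exact (IsPullback.of_hasPullback (i ≫ p) x₁).flip

instance isClosedImmersion_vmap (i : V ⟶ X) [IsClosedImmersion i] :
    IsClosedImmersion (vmap p x₁ i) :=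
  MorphismProperty.of_isPullback (P := @IsClosedImmersion) (isPullback_vmap p x₁ i) inferInstance

theorem vmap_snd (i : V ⟶ X) : vmap p x₁ i ≫ pullback.snd p x₁ = pullback.snd (i ≫ p) x₁ := by
  rw [pullback.lift_snd, Category.comp_id]

theorem vmap_fst (i : V ⟶ X) :
    vmap p x₁ i ≫ pullback.fst p x₁ = pullback.fst (i ≫ p) x₁ ≫ i := pullback.lift_fst _ _ _

theorem ker_vmap (i : V ⟶ X) [IsClosedImmersion i] :
    (vmap p x₁ i).ker = i.ker.comap (pullback.fst p x₁) :=
  Fga.HilbClosed.ker_of_isPullback (isPullback_vmap p x₁ i)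

/-- the morphism `c` of the statement is the base change of the closed immersion of the flat
closure. -/
theorem isPullback_c {Φ : Scheme.{u}} (i : V ⟶ X) (j : Φ ⟶ pullback (i ≫ p) x₁)
    (c : pullback (j ≫ pullback.snd (i ≫ p) x₁) x₀ ⟶ pullback p (x₀ ≫ x₁))
    (hc₁ : c ≫ pullback.fst p (x₀ ≫ x₁) = pullback.fst _ x₀ ≫ j ≫ pullback.fst (i ≫ p) x₁ ≫ i)
    (hc₂ : c ≫ pullback.snd p (x₀ ≫ x₁) = pullback.snd _ x₀) :
    IsPullback (pullback.fst (j ≫ pullback.snd (i ≫ p) x₁) x₀) c (j ≫ vmap p x₁ i)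
      (gmap p x₁ x₀) := by
  refine IsPullback.of_bot (t := (isPullback_gmap p x₁ x₀)) ?_ ?_
  · rw [hc₂, Category.assoc, vmap_snd]
    exact IsPullback.of_hasPullback _ _
  · apply pullback.hom_ext
    · rw [Category.assoc, Category.assoc, Category.assoc, vmap_fst, pullback.lift_fst, hc₁]
    · rw [Category.assoc, Category.assoc, Category.assoc, vmap_snd, pullback.lift_snd,
        ← Category.assoc c, hc₂, pullback.condition]

end Square

end Groth.Agent.Cyc.K91.FatPt
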