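import Groth.Agent.Cyc.K91.Compare
import Groth.Agent.CycB.FlatProper
import Groth.Agent.Divis.CartierStalk

/-!
# Finiteness of the multiplicities of fibres and transcendence degrees
-/

set_option autoImplicit false
universe u

open CategoryTheory CategoryTheory.Limits AlgebraicGeometry

namespace Groth.Agent.Cyc.K91.FibFin

open Groth.Agent.Divis.CartierBasic Groth.Agent.CycB Groth.Agent.CycB.FiberStalk
  Groth.Agent.CycB.LocQuot Groth.Agent.Cyc.K91.FibMult Groth.Agent.CycB.RelDim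
  Groth.Agent.CycB.TrdegAlg

variable {X S Z : Scheme.{u}}

theorem mult_eq_cI (i : Z ⟶ X) [IsClosedImmersion i] (f : X ⟶ S) (z : Z) :
    FlatDiv.mult (i ≫ f) z = cI f i.ker (i z) := by
  unfold FlatDiv.mult cI
  have hk := Divis.CartierStalk.ker_stalkMap i z
  rw [FiberMap.length_quot_map_of_surjective (i.stalkMap z).hom
    (i.stalkMap_surjective z) (stalkIdeal i.ker (i z) ⊔ fibIdeal f (i z))
    (hk.le.trans le_sup_left), Ideal.map_sup]
  have h1 : (stalkIdeal i.ker (i z)).map (i.stalkMap z).hom = ⊥ := by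
    rw [← hk, Ideal.map_eq_bot_iff_le_ker]
  rw [h1, bot_sup_eq, FiberMap.map_maximalIdeal_comp]

theorem mem_support_ker_iff (i : Z ⟶ X) [IsClosedImmersion i] (x : X) :
    x ∈ i.ker.support ↔ ∃ z, i z = x := by
  have h := congr(x ∈ $(i.support_ker))
  rw [i.isClosedEmbedding.isClosed_range.closure_eq] at h
  exact Iff.of_eq h

theorem finsum_pullFun (i : Z ⟶ X) [IsClosedImmersion i] (f : X ⟶ S) (x : X) :
    ∑ᶠ z ∈ {z : Z | i z = x}, (Cyc.pullFun (i ≫ f) (fun _ => 0) (fun _ => 0) 0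
      (fun _ => 1) z).toNat = (cI f i.ker x).toNat := by
  by_cases hx : ∃ z, i z = x
  · obtain ⟨z, rfl⟩ := hx
    have h1 : {w : Z | i w = i z} = {z} := by
      ext w
      simp only [Set.mem_ofPred_eq, Set.mem_singleton_iff]
      exact i.isEmbedding.injective.eq_iff
    rw [h1, finsum_mem_singleton, ← mult_eq_cI]
    unfold Cyc.pullFun FlatDiv.mult
    simp
  · have h1 : {z : Z | i z = x} = ∅ := by
      ext w
      simp only [Set.mem_ofPred_eq, Set.mem_empty_iff_false, iff_false]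
      exact fun h => hx ⟨w, h⟩
    rw [h1, finsum_mem_empty]
    have h2 : cI f i.ker x = 0 := by
      by_contra h2
      exact hx ((mem_support_ker_iff i x).1 ((Compare.cI_ne_zero_iff f _ x).1 h2))
    rw [h2]
    rfl

theorem rtd_eq (i : Z ⟶ X) [IsClosedImmersion i] (f : X ⟶ S) (z : Z) :
    rtd (i ≫ f) z = rtd f (i z) := by
  rw [rtd_comp, rtd_eq_zero_of_isPreimmersion i, add_zero]

theorem cI_ne_top_iff_fibGeneric (i : Z ⟶ X) [IsClosedImmersion i] (f : X ⟶ S)
    [IsLocallyNoetherian Z] (z : Z) : cI f i.ker (i z) ≠ ⊤ ↔ FibGeneric (i ≫ f) z := by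
  rw [← mult_eq_cI]
  refine ⟨fun h x' hx' hs => ?_, fun h => FlatDiv.mult_ne_top (i ≫ f) h⟩
  exact FlatProper.fibGeneric_of_length_ne_top (i ≫ f) z h x' hx' hs

theorem cI_ne_top_iff_rtd (i : Z ⟶ X) [IsClosedImmersion i] (f : X ⟶ S)
    [LocallyOfFiniteType f] [IsLocallyNoetherian Z] {r : ℕ} (hr : Cyc.HasRelDim (i ≫ f) r) {x : X}
    (hx : x ∈ i.ker.support) : cI f i.ker x ≠ ⊤ ↔ rtd f x = r := by
  obtain ⟨z, rfl⟩ := (mem_support_ker_iff i x).1 hx
  rw [cI_ne_top_iff_fibGeneric, fibGeneric_iff hr, rtd_eq]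

theorem rtd_le_of_mem (i : Z ⟶ X) [IsClosedImmersion i] (f : X ⟶ S)
    [LocallyOfFiniteType f] {r : ℕ} (hr : Cyc.HasRelDim (i ≫ f) r) {x : X}
    (hx : x ∈ i.ker.support) : rtd f x ≤ r := by
  obtain ⟨z, rfl⟩ := (mem_support_ker_iff i x).1 hx
  rw [← rtd_eq]
  exact rtd_le hr z

theorem flat_subschemeι (i : Z ⟶ X) [IsClosedImmersion i] (f : X ⟶ S) [Flat (i ≫ f)] :
    Flat (i.ker.subschemeι ≫ f) := by
  have h : i.ker.subschemeι ≫ f = inv i.toImage ≫ (i ≫ f) := by
    rw [IsIso.eq_inv_comp, ← Category.assoc]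
    congr 1
    exact i.toImage_imageι
  rw [h]
  infer_instance

end Groth.Agent.Cyc.K91.FibFin
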