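import Groth.Agent.CycB.FiberMap
import Groth.Agent.CycB.RelDim4
import Groth.Agent.Ega4late.H533.NormalDesc
import Mathlib.RingTheory.LocalRing.Length

/-!
# Multiplicities of fibres of closed subschemes and base change

For `f : X ⟶ S`, a quasi-coherent ideal `I` of `X` and `x : X`, `cI f I x` is the length of the local
ring at `x` of the fibre over `f x` of the closed subscheme of `I` (zero when `x` is not on it).
For a cartesian square over `g : S' ⟶ S` one has `cI f' (I·O_{X'}) t = cI f I (g' t) * e(t)` with a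
factor `e(t) ≠ 0` which does not depend on `I`.
-/

set_option autoImplicit false
universe u

open CategoryTheory CategoryTheory.Limits AlgebraicGeometry

namespace Groth.Agent.Cyc.K91.FibMult

open Groth.Agent.Divis.CartierBasic Groth.Agent.CycB Groth.Agent.CycB.FiberStalk
  Groth.Agent.CycB.FlatDiv Groth.Agent.Ega4late.H533.DescScheme

variable {X S X' S' : Scheme.{u}}

/-- the length of `O_{X,x} / I_x`. -/
noncomputable def lI (I : X.IdealSheafData) (x : X) : ℕ∞ :=
  Module.length (X.presheaf.stalk x) (X.presheaf.stalk x ⧸ stalkIdeal I x)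

/-- the length at `x` of the fibre over `f x` of the closed subscheme of `I`. -/
noncomputable def cI (f : X ⟶ S) (I : X.IdealSheafData) (x : X) : ℕ∞ :=
  Module.length (X.presheaf.stalk x)
    (X.presheaf.stalk x ⧸ (stalkIdeal I x ⊔ FiberStalk.fibIdeal f x))

theorem cI_fiberι (f : X ⟶ S) (I : X.IdealSheafData) (y : S) (z : f.fiber y) :
    cI f I (f.fiberι y z) = lI (I.comap (f.fiberι y)) z := by
  unfold cI lI
  have hk := FiberStalk.ker_stalkMap_fiberι f y z
  rw [FiberMap.length_quot_map_of_surjective ((f.fiberι y).stalkMap z).hom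
    ((f.fiberι y).stalkMap_surjective z) _ (hk.le.trans le_sup_right), Ideal.map_sup,
    stalkIdeal_comap]
  have h1 : (FiberStalk.fibIdeal f (f.fiberι y z)).map ((f.fiberι y).stalkMap z).hom = ⊥ := by
    rw [← hk, Ideal.map_eq_bot_iff_le_ker]
  rw [h1, sup_bot_eq]

theorem lI_comap_flat {W W' : Scheme.{u}} (m : W' ⟶ W) [Flat m] (I : W.IdealSheafData) (z : W') :
    lI (I.comap m) z = lI I (m z) * mult m z := by
  unfold lI mult
  rw [stalkIdeal_comap]
  let _ := (m.stalkMap z).hom.toAlgebra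
  have h1 : Module.Flat (W.presheaf.stalk (m z)) (W'.presheaf.stalk z) := Flat.stalkMap m z
  have h2 : IsLocalHom (algebraMap (W.presheaf.stalk (m z)) (W'.presheaf.stalk z)) :=
    inferInstanceAs (IsLocalHom (m.stalkMap z).hom)
  have h3 := IsLocalRing.length_baseChange (W.presheaf.stalk (m z)) (W'.presheaf.stalk z)
    (W.presheaf.stalk (m z) ⧸ stalkIdeal I (m z))
  have e := (Algebra.TensorProduct.quotIdealMapEquivTensorQuot (W'.presheaf.stalk z)
    (stalkIdeal I (m z))).toLinearEquiv
  rw [← e.length_eq] at h3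
  exact h3

theorem mult_ne_zero {W W' : Scheme.{u}} (m : W' ⟶ W) (z : W') : mult m z ≠ 0 := by
  unfold mult
  rw [Ne, Module.length_eq_zero_iff, Ideal.Quotient.subsingleton_iff]
  exact (IsLocalRing.map_maximalIdeal_lt_top (m.stalkMap z).hom).ne

/-- The flat map of fibres of a base change. -/
theorem exists_flat_fiber {g' : X' ⟶ X} {f' : X' ⟶ S'} {f : X ⟶ S} {g : S' ⟶ S}
    (sq : IsPullback g' f' f g) (s : S') :
    ∃ m : f'.fiber s ⟶ f.fiber (g s), Flat m ∧
      m ≫ f.fiberι (g s) = f'.fiberι s ≫ g' := by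
  have h := isPullback_fiberToSpecResidueField_of_isPullback sq s
  refine ⟨pullback.map _ _ _ _ g' (Spec.map (g.residueFieldMap s)) g sq.w.symm (by simp), ?_,
    pullback.lift_fst _ _ _⟩
  have h3 : Flat (Spec.map (g.residueFieldMap s)) := by
    rw [Flat.SpecMap_iff]
    let _ := (g.residueFieldMap s).hom.toAlgebra
    exact (inferInstance : Module.Flat (S.residueField (g s)) (S'.residueField s))
  exact MorphismProperty.of_isPullback (P := @Flat) h.flip h3

/-- Base change of the multiplicities, with a factor which does not depend on the ideal. -/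
theorem exists_factor {g' : X' ⟶ X} {f' : X' ⟶ S'} {f : X ⟶ S} {g : S' ⟶ S}
    (sq : IsPullback g' f' f g) (t : X') :
    ∃ e : ℕ∞, e ≠ 0 ∧ ∀ I : X.IdealSheafData,
      cI f' (I.comap g') t = cI f I (g' t) * e := by
  obtain ⟨m, hm, hmc⟩ := exists_flat_fiber sq (f' t)
  refine ⟨mult m (f'.asFiber t), mult_ne_zero _ _, fun I => ?_⟩
  have h1 : f'.fiberι (f' t) (f'.asFiber t) = t := f'.fiberι_asFiber t
  have h2 : f.fiberι (g (f' t)) (m (f'.asFiber t)) = g' t := by
    have h3 := congr($hmc (f'.asFiber t))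
    simp only [Scheme.Hom.comp_apply] at h3
    rw [h3, h1]
  have h4 := cI_fiberι f' (I.comap g') (f' t) (f'.asFiber t)
  have h5 := cI_fiberι f I (g (f' t)) (m (f'.asFiber t))
  rw [h1] at h4
  rw [h2] at h5
  rw [h4, h5, ← lI_comap_flat, ← Scheme.IdealSheafData.comap_comp,
    ← Scheme.IdealSheafData.comap_comp, hmc]

/-- Every pair of points over the same point of `S` is dominated by a point of the fibre product at
which the factor is finite. -/
theorem exists_point {g' : X' ⟶ X} {f' : X' ⟶ S'} {f : X ⟶ S} {g : S' ⟶ S}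
    [LocallyOfFiniteType f] (sq : IsPullback g' f' f g) (x : X) (s : S') (h : f x = g s) :
    ∃ t : X', g' t = x ∧ f' t = s ∧ ∃ e : ℕ∞, e ≠ 0 ∧ e ≠ ⊤ ∧ ∀ I : X.IdealSheafData,
      cI f' (I.comap g') t = cI f I x * e := by
  obtain ⟨t₀, ht₀, hs₀⟩ : ∃ t₀ : X', g' t₀ = x ∧ f' t₀ = s := by
    obtain ⟨p, hp1, hp2⟩ := Scheme.Pullback.exists_preimage_pullback x s h
    refine ⟨sq.isoPullback.inv p, ?_, ?_⟩
    · rw [← Scheme.Hom.comp_apply, sq.isoPullback_inv_fst, hp1]
    · rw [← Scheme.Hom.comp_apply, sq.isoPullback_inv_snd, hp2]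
  subst hs₀
  obtain ⟨m, hm, hmc⟩ := exists_flat_fiber sq (f' t₀)
  obtain ⟨z, hz1, hz2, hz3⟩ := exists_fibGen m (f'.asFiber t₀)
  have hft : LocallyOfFiniteType f' :=
    MorphismProperty.of_isPullback (P := @LocallyOfFiniteType) sq ‹_›
  have hft2 : LocallyOfFiniteType (f'.fiberToSpecResidueField (f' t₀)) :=
    inferInstanceAs (LocallyOfFiniteType (pullback.snd f' _))
  have hN : IsLocallyNoetherian (f'.fiber (f' t₀)) :=
    LocallyOfFiniteType.isLocallyNoetherian (f'.fiberToSpecResidueField (f' t₀))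
  have h1 : f'.fiberι (f' t₀) (f'.asFiber t₀) = t₀ := f'.fiberι_asFiber t₀
  have h2 : f.fiberι (g (f' t₀)) (m z) = x := by
    rw [hz1]
    have h3 := congr($hmc (f'.asFiber t₀))
    simp only [Scheme.Hom.comp_apply] at h3
    rw [h3, h1, ht₀]
  refine ⟨f'.fiberι _ z, ?_, FiberKer.apply_fiberι f' _ z, mult m z, mult_ne_zero _ _,
    mult_ne_top m hz2, fun I => ?_⟩
  · rw [← h2]
    have h3 := congr($hmc z)
    simp only [Scheme.Hom.comp_apply] at h3
    exact h3.symm
  · have h5 := cI_fiberι f I (g (f' t₀)) (m z)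
    rw [h2] at h5
    rw [cI_fiberι, h5, ← lI_comap_flat, ← Scheme.IdealSheafData.comap_comp,
      ← Scheme.IdealSheafData.comap_comp, hmc]

end Groth.Agent.Cyc.K91.FibMult
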