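import Groth.Agent.Cyc.K91.DvrFam
import Groth.Agent.CycB.PtClosure
import Groth.Agent.Ega1.ReducedSub

/-!
# Stalks of the ideals of reduced closures of points and of scheme-theoretic images
-/

set_option autoImplicit false
universe u

open CategoryTheory CategoryTheory.Limits AlgebraicGeometry

namespace Groth.Agent.Cyc.K91.RedStalk

open Groth.Agent.Divis.CartierBasic Groth.Agent.CycB Groth.Agent.CycB.FiberStalk
  Groth.Agent.CycB.LocQuot Groth.Agent.Cyc.K91.FibMult Groth.Agent.CycB.PtClosure

variable {X S P Y : Scheme.{u}}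

/-- the ideal of the closure of `x` with its reduced structure. -/
noncomputable abbrev redI (x : X) : X.IdealSheafData :=
  Scheme.IdealSheafData.vanishingIdeal
    (⟨closure {x}, isClosed_closure⟩ : TopologicalSpace.Closeds X)

theorem mem_support_redI (x y : X) : y ∈ (redI x).support ↔ x ⤳ y := by
  rw [specializes_iff_mem_closure]
  have h := Scheme.IdealSheafData.coe_support_vanishingIdeal
    (⟨closure {x}, isClosed_closure⟩ : TopologicalSpace.Closeds X)
  exact Set.ext_iff.1 h y

theorem redI_eq_ker (x : X) : redI x = (ptClι x).ker := by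
  have h := Ega1.ReducedSub.ker_eq_vanishingIdeal (X.fromSpecResidueField x)
  have h2 : (⟨closure (Set.range (X.fromSpecResidueField x)), isClosed_closure⟩ :
      TopologicalSpace.Closeds X) = ⟨closure {x}, isClosed_closure⟩ := by
    ext1
    change closure _ = closure _
    rw [Scheme.range_fromSpecResidueField]
  rw [h2] at h
  rw [redI, ← h]
  exact (Scheme.IdealSheafData.ker_subschemeι _).symm

theorem stalkIdeal_redI_aux (x : X) :
    stalkIdeal (ptClι x).ker (ptClι x (genericPoint (ptCl x))) =
      IsLocalRing.maximalIdeal (X.presheaf.stalk (ptClι x (genericPoint (ptCl x)))) := by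
  rw [← Divis.CartierStalk.ker_stalkMap]
  let _ : Field ((ptCl x).presheaf.stalk (genericPoint (ptCl x))) :=
    inferInstanceAs (Field (ptCl x).functionField)
  refine IsLocalRing.eq_maximalIdeal ?_
  exact RingHom.ker_isMaximal_of_surjective _ ((ptClι x).stalkMap_surjective _)

theorem stalkIdeal_congr (I : X.IdealSheafData) {x y : X} (h : x = y)
    (hx : stalkIdeal I x = IsLocalRing.maximalIdeal (X.presheaf.stalk x)) :
    stalkIdeal I y = IsLocalRing.maximalIdeal (X.presheaf.stalk y) := by
  subst h
  exact hx

theorem stalkIdeal_redI (x : X) :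
    stalkIdeal (redI x) x = IsLocalRing.maximalIdeal (X.presheaf.stalk x) := by
  rw [redI_eq_ker]
  exact stalkIdeal_congr _ (ptClι_genericPoint x) (stalkIdeal_redI_aux x)

theorem cI_redI_self (f : X ⟶ S) (x : X) : cI f (redI x) x = 1 := by
  unfold cI
  rw [stalkIdeal_redI, sup_eq_left.2 (FiberStalk.fibIdeal_le f x), Module.length_eq_one_iff]
  exact isSimpleModule_iff_isCoatom.2 (IsLocalRing.maximalIdeal.isMaximal _).out

/-- The ideal of the scheme-theoretic image of a flat morphism vanishes at the stalks of the points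
of the image. -/
theorem stalkIdeal_ker_of_flat (u : Y ⟶ P) [Flat u] [QuasiCompact u] (z : Y) :
    stalkIdeal u.ker (u z) = ⊥ := by
  have h1 : u.ker.comap u = ⊥ := by
    rw [eq_bot_iff, ← Scheme.IdealSheafData.le_map_iff_comap_le, Scheme.IdealSheafData.map_bot]
  have h2 := Divis.CartierStalk.stalkIdeal_comap u.ker u z
  rw [h1, stalkIdeal_bot, eq_comm, Ideal.map_eq_bot_iff_le_ker] at h2
  have h3 : Function.Injective (u.stalkMap z).hom := by
    let _ := (u.stalkMap z).hom.toAlgebra
    have h4 : Module.Flat (P.presheaf.stalk (u z)) (Y.presheaf.stalk z) := Flat.stalkMap u z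
    have h5 : IsLocalHom (algebraMap (P.presheaf.stalk (u z)) (Y.presheaf.stalk z)) :=
      inferInstanceAs (IsLocalHom (u.stalkMap z).hom)
    have h6 : Module.FaithfullyFlat (P.presheaf.stalk (u z)) (Y.presheaf.stalk z) :=
      Module.FaithfullyFlat.of_flat_of_isLocalHom
    exact FaithfulSMul.algebraMap_injective _ _
  rw [(RingHom.injective_iff_ker_eq_bot _).1 h3, le_bot_iff] at h2
  exact h2

/-- The stalk of the ideal of a closed subscheme of a closed subscheme, at a point where the former
is all of the latter. -/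
theorem stalkIdeal_ker_comp (K : P.IdealSheafData) (v : P ⟶ Y) [IsClosedImmersion v] (z : P)
    (hK : stalkIdeal K z = ⊥) :
    stalkIdeal (K.subschemeι ≫ v).ker (v z) = stalkIdeal v.ker (v z) := by
  have hz : z ∈ K.support := by
    by_contra hz
    rw [(notMem_support_iff_stalkIdeal_eq_top K z).1 hz] at hK
    exact top_ne_bot hK
  obtain ⟨w, rfl⟩ := DvrFam.exists_subschemeι_eq K hz
  have h1 := Divis.CartierStalk.ker_stalkMap (K.subschemeι ≫ v) w
  have h2 := Divis.CartierStalk.ker_stalkMap v (K.subschemeι w)
  have h3 := Divis.CartierStalk.ker_stalkMap K.subschemeι w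
  rw [K.ker_subschemeι, hK] at h3
  rw [← h2]
  refine h1.symm.trans (Ideal.ext fun a => ?_)
  have h5 : ((K.subschemeι ≫ v).stalkMap w).hom a =
      (K.subschemeι.stalkMap w).hom ((v.stalkMap (K.subschemeι w)).hom a) := by
    rw [Scheme.Hom.stalkMap_comp]
    rfl
  refine (RingHom.mem_ker (f := ((K.subschemeι ≫ v).stalkMap w).hom)).trans
    (Iff.trans ?_ (RingHom.mem_ker (f := (v.stalkMap (K.subschemeι w)).hom)).symm)
  rw [h5]
  constructor
  · intro ha
    have h4 : (v.stalkMap (K.subschemeι w)).hom a ∈ RingHom.ker (K.subschemeι.stalkMap w).hom := ha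
    rw [h3] at h4
    exact h4
  · intro ha
    rw [ha, map_zero]

end Groth.Agent.Cyc.K91.RedStalk
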